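import Cfsg.Agent.Lib.U43.Init
import Cfsg.Agent.Lib.Known2.LE4
import Cfsg.Agent.Lib.PGrp.CExt
import Cfsg.Agent.Lib.Golay.Conj
import Cfsg.Agent.Lib.Golay.Cls

/-! The action of the involution centraliser of a group of Suzuki type on its extraspecial subgroup: the model. -/

set_option autoImplicit false
set_option maxRecDepth 100000

namespace Cfsg.Lib.SuzT

open Cfsg.Lib.FO Subgroup Cfsg.Lib.Golay Cfsg.Lib.Golay.Coding Cfsg.Lib.PGrp Cfsg.Lib.MatB

def bt (k i : ℕ) : ℕ := k / 2 ^ i % 2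

def mu (x y : ℕ) : ℕ := (x ^^^ y) % 64 + 64 * ((bt x 6 + bt y 6 + bt x 0 * bt y 1 + bt x 2 * bt y 3 + bt x 4 * bt y 4 +
  bt x 4 * bt y 5 + bt x 5 * bt y 5) % 2)

theorem mu_lt (x y : ℕ) : mu x y < 128 := by unfold mu; omega

def β0 : LinearMap.BilinForm (ZMod 2) (Fin 6 → ZMod 2) :=
  LinearMap.mk₂ _ (fun v w => v 0 * w 1 + v 2 * w 3 + v 4 * w 4 + v 4 * w 5 + v 5 * w 5)
    (fun _ _ _ => by simp only [Pi.add_apply]; ring) (fun _ _ _ => by simp only [Pi.smul_apply, smul_eq_mul]; ring)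
    (fun _ _ _ => by simp only [Pi.add_apply]; ring) fun _ _ _ => by simp only [Pi.smul_apply, smul_eq_mul]; ring

def κ (k : ℕ) : Heis β0 := ⟨fun i => (bt k i : ℕ), (bt k 6 : ℕ)⟩

theorem κ_mul {j k : ℕ} (hj : j < 128) (hk : k < 128) : κ (mu j k) = κ j * κ k :=
  have := (by decide +kernel : ∀ j < 128, ∀ k < 128, (∀ i, (κ (mu j k)).v i = (κ j).v i + (κ k).v i) ∧
    (κ (mu j k)).a = (κ j).a + (κ k).a + β0 (κ j).v (κ k).v) j hj k hk
  Heis.ext (funext this.1) this.2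

theorem κ_bij : Function.Bijective fun k : Fin 128 => κ k := by
  refine (Nat.bijective_iff_injective_and_card _).2 ⟨fun j k e => (by decide +kernel : ∀ j k : Fin 128,
    (∀ i, (κ j).v i = (κ k).v i) → (κ j).a = (κ k).a → j = k) j k (congrFun (congrArg Heis.v e)) (congrArg Heis.a e), ?_⟩
  rw [(Heis.cExt β0).card_eq_pow]; simp

theorem β0_nd : (Heis.cExt β0).alt.Nondeg := fun x hx =>
  funext ((by decide +kernel : ∀ x : Fin 6 → ZMod 2, (∀ i, β0 x (Pi.single i 1) - β0 (Pi.single i 1) x = 0) → ∀ i, x i = 0) x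
    fun i => (Heis.cExt_B β0 _ _).symm.trans (hx _))

theorem β0_minus : ¬ (Heis.cExt β0).quad.HasTS 3 := fun h => by
  have h1 := (Heis.cExt β0).card_sq_eq_one_plus β0_nd (m := 2) (by simp) h
  rw [← Nat.card_congr ((Equiv.ofBijective _ κ_bij).subtypeEquiv (p := fun k : Fin 128 => mu k k = 0) fun k => ?_),
    Nat.card_eq_fintype_card] at h1
  · exact absurd h1 (by decide +kernel)
  · show _ ↔ κ k ^ 2 = 1
    rw [pow_two, ← κ_mul k.2 k.2, show (1 : Heis β0) = κ 0 from Heis.ext (funext fun i => by simp [κ, bt]) (by simp [κ, bt])]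
    exact ⟨fun e => e ▸ rfl, fun e => congrArg Fin.val (κ_bij.1 (a₁ := ⟨_, mu_lt _ _⟩) (a₂ := 0) e)⟩

end Cfsg.Lib.SuzT
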