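import Cfsg.Agent.Lib.SuzT.A2
import Cfsg.Agent.Lib.Fi.O6

/-! Groups of Suzuki type: the involution centraliser modulo its centre. -/

set_option autoImplicit false
set_option maxRecDepth 100000

namespace Cfsg.Lib.SuzT

open Cfsg.Lib.FO Subgroup Cfsg.Lib.Golay Cfsg.Lib.Golay.Coding Cfsg.Lib.PGrp Cfsg.Lib.Known2 Cfsg.Lib.Forms Cfsg.Lib.Core

variable {G : Type*} [Group G] [Finite G]

/-- `g` acts on `Q` as `σ` -/
def S (ι : ℕ → G) (g : G) (σ : Pm) : Prop := ∀ k : Fin 128, g * ι k * g⁻¹ = ι (σ k)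

structure SZ (z : G) (Q : Subgroup G) (ι : ℕ → G) : Prop where
  ls : LS Q z
  core : Q = pCoreOf 2 (centralizer ({z} : Set G))
  mul : ∀ j < 128, ∀ k < 128, ι (mu j k) = ι j * ι k
  inj : ∀ j < 128, ∀ k < 128, ι j = ι k → j = k
  mem : ∀ x, x ∈ Q ↔ ∃ k < 128, ι k = x
  z64 : ι 64 = z
  ex : ∀ g, g * z = z * g → ∃ σ ∈ PH, S ι g σ
  sur : ∀ σ ∈ PH, ∃ g, S ι g σ
  cP : Nat.card PH = 1658880
  cQ : Nat.card Q = 128
  nwc : ∃ g, g * z * g⁻¹ ∈ Q ∧ g * z * g⁻¹ ≠ z

theorem card_Om : Nat.card (Omega (ZMod 2) (quadFormMinus 2 (ZMod 2) 1 1)) = 25920 := by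
  have h1 := (commutator Fi.O6).card_mul_index
  have hn := finrank_minus (F := ZMod 2) 2
  rw [Fi.card_O6, show (commutator Fi.O6).index = 2 from (index_commutator_equiv (oEquiv (fMinus 2 (1 : ZMod 2) 1))).trans
    ((fMinus_nondeg 2 Fi.an2).index_commutator_even (Or.inr (Or.inl (by omega))) rfl (by omega))] at h1
  exact Nat.eq_of_mul_eq_mul_right two_pos h1

theorem sz_of {z : G} (hz : orderOf z = 2) {Q : Subgroup (centralizer ({z} : Set G))} [Q.Normal]
    (hF : generalizedFittingSubgroup (centralizer ({z} : Set G)) = Q) (hQ : IsExtraspecial 2 Q) (hcard : Nat.card Q = 2 ^ 7)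
    (e : (centralizer ({z} : Set G)) ⧸ Q ≃* Omega (ZMod 2) (quadFormMinus 2 (ZMod 2) 1 1))
    (hnwc : ∃ g : G, (∃ hq : g * z * g⁻¹ ∈ centralizer ({z} : Set G), (⟨g * z * g⁻¹, hq⟩ : centralizer ({z} : Set G)) ∈ Q) ∧
      g * z * g⁻¹ ≠ z) : ∃ ι, SZ z (Q.map (centralizer ({z} : Set G)).subtype) ι := by
  obtain ⟨V, _, _, _, M0, m, hN0, hm⟩ := IsExtraspecial.exists_cExt hQ
  have h0 := hcard
  rw [M0.card_eq_pow, hm, Nat.pow_right_inj one_lt_two] at h0
  obtain rfl : m = 2 := by omega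
  have : Nontrivial V := Module.nontrivial_of_finrank_pos (R := ZMod 2) (by omega)
  have cH : Nat.card (centralizer ({z} : Set G)) = 25920 * 128 := by
    rw [card_eq_card_quotient_mul_card_subgroup Q, Nat.card_congr e.toEquiv, card_Om, hcard]; rfl
  have nw : ∃ g, g * z * g⁻¹ ∈ Q.map (centralizer ({z} : Set G)).subtype ∧ g * z * g⁻¹ ≠ z :=
    let ⟨g, ⟨_, h1⟩, h2⟩ := hnwc; ⟨g, ⟨_, h1, rfl⟩, h2⟩
  have eQ := Q.equivMapOfInjective _ (centralizer ({z} : Set G)).subtype_injective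
  have cQ : Nat.card (Q.map (centralizer ({z} : Set G)).subtype) = 128 := (Nat.card_congr eQ.toEquiv).symm.trans hcard
  have hN := M0.congr_nondeg eQ hN0
  generalize M0.congr eQ = M at hN
  obtain ⟨ls, hO⟩ := ls_of_fstar hz (Q := Q.map (centralizer ({z} : Set G)).subtype) (by rw [hF]) (M.isExtraspecial hN)
  generalize Q.map (centralizer ({z} : Set G)).subtype = R at *
  let π : centralizer ({z} : Set G) →* MulAut R := R.normalizerMonoidHom.comp (inclusion ls.cent_le_norm)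
  have hπ : ∀ g x, (π g x : G) = g * x * (g : G)⁻¹ := fun g x => rfl
  have c1 : Nat.card π.range = 1658880 := by
    have := π.ker.card_mul_index
    rw [index_ker, cH, show π.ker = (zpowers z).subgroupOf _ from Subgroup.ext fun g => ⟨fun h => ls.mem_zp.2 (ls.selfc g fun x hx =>
      comm_of_conj_eq (congrArg Subtype.val (MulEquiv.ext_iff.1 h ⟨x, hx⟩))), fun h => MulEquiv.ext fun x => Subtype.ext (by
        rcases ls.mem_zp.1 h with e | e <;> rw [hπ, show (g : G) = _ from e]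
        exacts [by simp, conj_eq_of_comm (ls.cen x x.2).symm])⟩,
      Nat.card_congr (subgroupOfEquivOfLe (zpowers_le.2 (mem_cent_single.2 rfl))).toEquiv, Nat.card_zpowers, hz] at this
    omega
  have : (MulAut.conj : R →* MulAut R).range.Normal := ⟨by rintro _ ⟨x, rfl⟩ α; exact ⟨α x, by ext; simp⟩⟩
  obtain ⟨o⟩ := M.nonempty_out_equiv hN
  have hN' := M.quad_nondeg.2 hN
  have c2 : Nat.card (MulAut R) = Nat.card M.quad.isom * 64 := by
    have := (MulAut.conj : R →* MulAut R).ker.card_mul_index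
    rw [index_ker, cQ, show (MulAut.conj : R →* MulAut R).ker = center R by
      ext x; simp [MulEquiv.ext_iff, mem_center_iff, eq_mul_inv_iff_mul_eq, eq_comm], (M.isExtraspecial hN).2] at this
    rw [card_eq_card_quotient_mul_card_subgroup (MulAut.conj : R →* MulAut R).range, Nat.card_congr o.toEquiv]
    congr 1; omega
  have h1 : ¬ M.quad.HasTS 3 := fun h => by
    have := card_subgroup_dvd_card π.range
    rw [c1, c2, Quad.card_isom_plus hN' hm h] at this
    simp [Finset.prod_range_succ] at this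
  have ci : π.range.index = 2 := by
    have := π.range.card_mul_index
    rw [c1, c2, Quad.card_isom_minus hN' hm h1] at this
    simp [Finset.prod_range_succ] at this
    omega
  obtain ⟨ψ⟩ := M.nonempty_mulEquiv (Heis.cExt β0) (Quad.iso_of_type hN' ((Heis.cExt β0).quad_nondeg.2 β0_nd) hm (by simp)
    (iff_of_false h1 β0_minus))
  let ε : Fin 128 ≃ R := (Equiv.ofBijective _ κ_bij).trans ψ.symm.toEquiv
  let ι : ℕ → G := fun k => ψ.symm (κ k)
  have em : ∀ j k : Fin 128, ε ⟨mu j k, mu_lt _ _⟩ = ε j * ε k := fun j k => (congrArg ψ.symm (κ_mul j.2 k.2)).trans (map_mul _ _ _)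
  let Θ : MulAut R →* Pm := ε.symm.permCongrHom.toMonoidHom.comp (MulAut.toPerm R)
  have hΘ : ∀ α k, ε (Θ α k) = α (ε k) := fun α k => ε.apply_symm_apply _
  have iΘ : Function.Injective Θ := fun α β h => MulEquiv.ext fun x => by rw [← ε.apply_symm_apply x, ← hΘ, ← hΘ, h]
  have c3 : Nat.card (π.range.map Θ) = 1658880 := (card_map_of_injective iΘ).trans c1
  have eP : PH = π.range.map Θ := gen_eq_of_chain (lvA ++ lvA') (fun g hg => ⟨g0_v g hg, by
    have a1 := (g0_v g hg).idx_dec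
    let α : MulAut R := MulEquiv.mk (ε.permCongr (c128.dec g)) fun x y => by
      obtain ⟨j, rfl⟩ := ε.surjective x
      obtain ⟨k, rfl⟩ := ε.surjective y
      show ε.permCongr _ _ = ε.permCongr _ _ * ε.permCongr _ _
      rw [← em]
      simp only [Equiv.permCongr_apply, Equiv.symm_apply_apply]
      rw [← em]
      exact congrArg ε (Fin.ext ((a1 _).trans (((aut0 g hg).2 j j.2 k k.2).trans (congrArg₂ mu (a1 j).symm (a1 k).symm))))
    have a2 : Θ α = c128.dec g := Equiv.ext fun k => ε.injective ((hΘ α k).trans (by simp [α]))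
    have a3 : α ^ 3 = 1 := iΘ (by
      rw [map_pow, a2, map_one]
      exact gen_pow_eq_one g0_in 3 (allL_iff.2 fun g hg => beq_iff.2 (aut0 g hg).1) _ ⟨g, hg, rfl⟩)
    refine ⟨α, ?_, a2⟩
    rw [show α = α * α * (α * α) by rw [← mul_assoc, ← pow_three', a3, one_mul]]
    exact mul_self_mem_of_index_two ci _⟩) chA (c3.trans (by decide +kernel)).le
  have sS : ∀ g, S ι g.1 (Θ (π g)) := fun g k => (congrArg Subtype.val (hΘ (π g) k)).symm
  have mul : ∀ j < 128, ∀ k < 128, ι (mu j k) = ι j * ι k := fun j hj k hk => congrArg Subtype.val (em ⟨j, hj⟩ ⟨k, hk⟩)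
  have inj : ∀ j < 128, ∀ k < 128, ι j = ι k → j = k := fun j hj k hk h =>
    congrArg Fin.val (ε.injective (a₁ := ⟨j, hj⟩) (a₂ := ⟨k, hk⟩) (Subtype.ext h))
  have mem : ∀ x, x ∈ R ↔ ∃ k < 128, ι k = x := fun x => ⟨fun h => ⟨_, (ε.symm ⟨x, h⟩).2,
    congrArg Subtype.val (ε.apply_symm_apply ⟨x, h⟩)⟩, fun ⟨k, _, h⟩ => h ▸ (ψ.symm (κ k)).2⟩
  refine ⟨ι, ls, hO, mul, inj, mem, (ls.of_cen _ (ψ.symm (κ 64)).2 fun y hy => ?_).resolve_left fun h => ?_,
    fun g hg => ⟨_, eP.ge ⟨_, ⟨⟨g, mem_cent_single.2 hg⟩, rfl⟩, rfl⟩, sS ⟨g, mem_cent_single.2 hg⟩⟩, fun σ hσ => ?_, eP ▸ c3, cQ, nw⟩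
  · obtain ⟨k, hk, rfl⟩ := (mem y).1 hy
    exact (mul 64 (by norm_num) k hk).symm.trans ((congrArg ι ((by decide +kernel : ∀ k < 128, mu 64 k = mu k 64) k hk)).trans
      (mul k hk 64 (by norm_num)))
  · have := mul 64 (by norm_num) 1 (by norm_num)
    rw [show ι 64 = 1 from h, one_mul] at this
    exact absurd (inj _ (mu_lt _ _) 1 (by norm_num) this) (by decide)
  · obtain ⟨_, ⟨g, rfl⟩, rfl⟩ := eP.le hσ
    exact ⟨g, sS g⟩

end Cfsg.Lib.SuzT
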