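import Cfsg.Agent.Lib.SuzT.A3

/-! Groups of Suzuki type: lifting from the model. -/

set_option autoImplicit false
set_option maxRecDepth 100000
set_option linter.unusedSectionVars false

namespace Cfsg.Lib.SuzT

open Cfsg.Lib.FO Subgroup Cfsg.Lib.Golay Cfsg.Lib.Known2 Cfsg.Lib.Amalg Cfsg.Lib.U43
open Cfsg.Lib.Psp43 hiding cjm
open Cfsg.Lib.Comp (Rels ev)

variable {G : Type*} [Group G] [Finite G] {z : G} {Q : Subgroup G} {ι γ : ℕ → G} {g g' a b y : G} {σ τ : Pm}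

theorem S.one : S ι 1 1 := fun k => by simp
theorem S.mul (h1 : S ι g σ) (h2 : S ι g' τ) : S ι (g * g') (σ * τ) := fun k => cjc2 (h2 k) (h1 _)
theorem S.inv (h : S ι g σ) : S ι g⁻¹ σ⁻¹ := fun k => cji (by simpa using h (σ⁻¹ k))
theorem S.pow (h : S ι g σ) (n : ℕ) : S ι (g ^ n) (σ ^ n) := by
  induction n with
  | zero => simpa using S.one
  | succ n ih => rw [pow_succ, pow_succ]; exact ih.mul h
theorem S.cj (h1 : S ι g σ) (h2 : S ι g' τ) : S ι (g * g' * g⁻¹) (σ * τ * σ⁻¹) := (h1.mul h2).mul h1.inv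

theorem S.tm (h : ∀ i, S ι (γ i) (dl i)) (t : Tm) : S ι (t.ev γ []) (tP t) := by
  induction t with
  | c i => exact h i
  | v i => exact S.one
  | one => exact S.one
  | mul a b ha hb => exact ha.mul hb
  | inv a ha => exact ha.inv

theorem S.act (h : S ι g σ) {c : ℕ} (hc : Cd c σ) {k : ℕ} (hk : k < 128) : g * ι k * g⁻¹ = ι (app c k) :=
  (h ⟨k, hk⟩).trans (congrArg ι (hc.app _))

theorem S.gen {ts : List Tm} {K : Subgroup G} (h : ∀ t ∈ ts, ∃ g ∈ K, S ι g (tP t)) (hσ : σ ∈ gen (ts.map tP)) :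
    ∃ g ∈ K, S ι g σ := by
  induction hσ using closure_induction with
  | mem x hx => obtain ⟨t, ht, rfl⟩ := List.mem_map.1 hx; exact h t ht
  | one => exact ⟨1, one_mem _, S.one⟩
  | mul x y _ _ hx hy => exact let ⟨a, h1, h2⟩ := hx; let ⟨b, h3, h4⟩ := hy; ⟨_, mul_mem h1 h3, h2.mul h4⟩
  | inv x _ hx => exact let ⟨a, h1, h2⟩ := hx; ⟨_, inv_mem h1, h2.inv⟩

theorem S.gen' (h : ∀ i, S ι (γ i) (dl i)) {ts : List Tm} (hg : g ∈ FO.gen (ts.map (Tm.ev γ []))) :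
    ∃ σ ∈ FO.gen (ts.map tP), S ι g σ := by
  induction hg using closure_induction with
  | mem x hx => obtain ⟨t, ht, rfl⟩ := List.mem_map.1 hx; exact ⟨_, mem_gen (List.mem_map_of_mem ht), S.tm h t⟩
  | one => exact ⟨1, one_mem _, S.one⟩
  | mul x y _ _ hx hy => exact let ⟨a, h1, h2⟩ := hx; let ⟨b, h3, h4⟩ := hy; ⟨_, mul_mem h1 h3, h2.mul h4⟩
  | inv x _ hx => exact let ⟨a, h1, h2⟩ := hx; ⟨_, inv_mem h1, h2.inv⟩

theorem teq (a b : Tm) (h : Nat.beq (tB a) (tB b) = true) : tP a = tP b := ((cd a).eq (cd b)).1 (beq_iff.1 h)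

def pr : List ℕ → ℕ → ℕ
  | [], _ => 0
  | x :: l, b => if b % 2 = 1 then mu x (pr l (b / 2)) else pr l (b / 2)

namespace SZ
variable (h : SZ z Q ι)
include h

theorem z2 : z * z = 1 := h.ls.sq
theorem z1 : z ≠ 1 := h.ls.ne
theorem mQ {k : ℕ} (hk : k < 128) : ι k ∈ Q := (h.mem _).2 ⟨k, hk, rfl⟩
theorem i0 : ι 0 = 1 := mul_left_cancel ((h.mul 0 (by norm_num) 0 (by norm_num)).symm.trans (mul_one _).symm)
theorem mul' {j k l : ℕ} (e : j < 128 ∧ k < 128 ∧ mu j k = l) : ι j * ι k = ι l := e.2.2 ▸ (h.mul j e.1 k e.2.1).symm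
theorem four {q : G} (hq : q ∈ Q) : q ^ 4 = 1 := h.ls.toES.pow_four hq

theorem cm {j k : ℕ} (hj : j < 128) (hk : k < 128) : ι j * ι k = ι k * ι j ↔ mu j k = mu k j := by
  rw [← h.mul j hj k hk, ← h.mul k hk j hj]
  exact ⟨h.inj _ (mu_lt _ _) _ (mu_lt _ _), congrArg ι⟩

theorem mem_pr {l : List ℕ} (hl : ∀ x ∈ l, x < 128) (b : ℕ) : pr l b < 128 ∧ ι (pr l b) ∈ gen (l.map ι) := by
  induction l generalizing b with
  | nil => exact ⟨by simp [pr], by rw [pr, h.i0]; exact one_mem _⟩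
  | cons x l ih =>
    obtain ⟨h1, h2⟩ := ih (fun y hy => hl y (.tail _ hy)) (b / 2)
    have h3 : ι (pr l (b / 2)) ∈ gen ((x :: l).map ι) := gen_le.2 (fun y hy => mem_gen (.tail _ hy)) h2
    rw [pr]; split_ifs
    exacts [⟨mu_lt _ _, h.mul x (hl x (.head _)) _ h1 ▸ mul_mem (mem_gen (.head _)) h3⟩, ⟨h1, h3⟩]

theorem cz (s : S ι g σ) : g * z = z * g := h.ls.toES.comm_of_norm (mem_normalizer_of_cj_le (by
  rintro _ ⟨_, hx, rfl⟩
  obtain ⟨k, hk, rfl⟩ := (h.mem _).1 hx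
  exact Set.mem_of_eq_of_mem (s ⟨k, hk⟩) (h.mQ (σ _).2)))

theorem ker (s : S ι g σ) (s' : S ι g' σ) : g = g' ∨ g = g' * z := by
  have := h.ls.selfc (g'⁻¹ * g) fun x hx => by
    obtain ⟨k, hk, rfl⟩ := (h.mem _).1 hx
    exact cm_of_cj (by simpa using (s'.inv.mul s) ⟨k, hk⟩)
  simpa only [inv_mul_eq_iff_eq_mul, mul_one] using this

theorem ker1 (s : S ι g 1) : g = 1 ∨ g = z := by simpa using h.ker s S.one

theorem uniq (s : S ι g σ) (s' : S ι g τ) : σ = τ :=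
  Equiv.ext fun k => Fin.ext (h.inj _ (σ k).2 _ (τ k).2 ((s k).symm.trans (s' k)))

theorem mP (s : S ι g σ) : σ ∈ PH := let ⟨_, h1, h2⟩ := h.ex g (h.cz s); h.uniq h2 s ▸ h1

theorem sz : S ι z 1 := fun k => cj_of_cm (h.ls.cen _ (h.mQ k.2)).symm

theorem fix (s : S ι g σ) {j k : ℕ} (hj : j < 128) (hk : k < 128) (e : g * ι j * g⁻¹ = ι k) : σ ⟨j, hj⟩ = ⟨k, hk⟩ :=
  Fin.ext (h.inj _ (σ _).2 _ hk ((s ⟨j, hj⟩).symm.trans e))

theorem fix' (s : S ι g σ) {c : ℕ} (hc : Cd c σ) {j k : ℕ} (hj : j < 128) (hk : k < 128) (e : g * ι j * g⁻¹ = ι k) :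
    app c j = k := (hc.app ⟨j, hj⟩).symm.trans (congrArg Fin.val (h.fix s hj hk e))

theorem inner {j i : ℕ} (e : j < 128 ∧ ∀ k < 128, mu j k = mu (app (tB (.c i)) k) j) : S ι (ι j) (dl i) := fun k => by
  rw [mul_inv_eq_iff_eq_mul, ← h.mul j e.1 k k.2, ← h.mul _ (dl i k).2 j e.1, e.2 k k.2, dl_app]; rfl

theorem z3 : z ^ 3 = z := by rw [pow_three, h.z2, mul_one]

theorem three (s : S ι g σ) (s' : S ι g' σ) (e : g ^ 3 = 1) (e' : g' ^ 3 = 1) : g = g' :=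
  (h.ker s s').resolve_right fun k => h.z1 (by rwa [k, Commute.mul_pow (h.cz s'), e', one_mul, h.z3] at e)

theorem odd (hσ : σ ∈ PH) (e : σ ^ 3 = 1) : ∃ g, S ι g σ ∧ g ^ 3 = 1 := by
  obtain ⟨g, s⟩ := h.sur σ hσ
  refine ⟨g ^ 4, by simpa [pow_succ' σ 3, e] using s.pow 4, ?_⟩
  rw [← pow_mul, mul_comm, pow_mul]
  rcases h.ker1 (e ▸ s.pow 3) with k | k <;> rw [k]
  exacts [one_pow _, h.four h.ls.mem]

theorem odd' (s : S ι y τ) (hσ : σ ∈ PH) (e : (τ * σ) ^ 3 = 1) : ∃ g, S ι g σ ∧ (y * g) ^ 3 = 1 :=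
  let ⟨g, h1, h2⟩ := h.odd (mul_mem (h.mP s) hσ) e; ⟨y⁻¹ * g, by simpa using s.inv.mul h1, by simpa using h2⟩

theorem three' (s0 : S ι y τ) (s : S ι g σ) (s' : S ι g' σ) (e : (y * g) ^ 3 = 1) (e' : (y * g') ^ 3 = 1) : g = g' :=
  mul_left_cancel (h.three (s0.mul s) (s0.mul s') e e')

theorem conj (c : G) (hc : c * z = z * c) : SZ z Q fun k => c * ι k * c⁻¹ := by
  have k : ∀ g σ, S ι g σ → S (fun k => c * ι k * c⁻¹) (c * g * c⁻¹) σ := fun g σ s k => cj3 c (s k)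
  refine ⟨h.ls, h.core, fun j hj k hk => by rw [h.mul j hj k hk, cjm], fun j hj k hk e => h.inj j hj k hk (by simpa using e),
    fun x => ⟨fun hx => ?_, fun ⟨k, hk, e⟩ => e ▸ h.ls.norm c hc _ (h.mQ hk)⟩, by rw [h.z64, cj_of_cm hc], fun g hg => ?_,
    fun σ hσ => let ⟨g, s⟩ := h.sur σ hσ; ⟨_, k g σ s⟩, h.cP, h.cQ, h.nwc⟩
  · obtain ⟨k, hk, e⟩ := (h.mem _).1 (h.ls.norm c⁻¹ (Commute.inv_left hc) x hx)
    exact ⟨k, hk, by rw [e]; group⟩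
  · obtain ⟨σ, h1, s⟩ := h.ex (c⁻¹ * g * c) (Commute.mul_left (Commute.mul_left (Commute.inv_left hc) hg) hc)
    exact ⟨σ, h1, by simpa [mul_assoc] using k _ σ s⟩

end SZ

/-- lifts of the letters -/
structure Lt (z : G) (ι γ : ℕ → G) : Prop where
  s : ∀ i, S ι (γ i) (dl i)
  g1 : γ 1 = z
  g2 : γ 2 = ι 4
  g3 : γ 3 = ι 1
  g5 : γ 5 = ι 2
  g7 : γ 7 = ι 10
  g10 : γ 10 = ι 16
  c8 : γ 8 ^ 3 = 1
  c12 : γ 12 ^ 3 = 1
  c14 : γ 14 ^ 3 = 1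
  e3 : (γ 14 * γ 16) ^ 3 = 1
  q3 : (γ 14 * γ 11) ^ 3 = 1
  d3 : (γ 16 * γ 17) ^ 3 = 1

theorem tp3 (a : Tm) (h : Nat.beq (tB (tp a 3)) (tB 1) = true) : tP a ^ 3 = 1 := (ev_tp dl a 3).symm.trans (teq _ 1 h)

theorem SZ.lt (h : SZ z Q ι) : ∃ γ, Lt z ι γ := by
  choose δ hδ using fun i => h.sur _ (dl_mem i)
  obtain ⟨y', a1, a2⟩ := h.odd (dl_mem 8) (tp3 (.c 8) (by decide +kernel))
  obtain ⟨p, b1, b2⟩ := h.odd (dl_mem 12) (tp3 (.c 12) (by decide +kernel))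
  obtain ⟨y, c1, c2⟩ := h.odd (dl_mem 14) (tp3 (.c 14) (by decide +kernel))
  obtain ⟨e, d1, d2⟩ := h.odd' c1 (dl_mem 16) (tp3 (.mul (.c 14) (.c 16)) (by decide +kernel))
  obtain ⟨q, e1, e2⟩ := h.odd' c1 (dl_mem 11) (tp3 (.mul (.c 14) (.c 11)) (by decide +kernel))
  obtain ⟨d, f1, f2⟩ := h.odd' d1 (dl_mem 17) (tp3 (.mul (.c 16) (.c 17)) (by decide +kernel))
  refine ⟨fun i => if i < 18 then nt 1 [1, z, ι 4, ι 1, δ 4, ι 2, δ 6, ι 10, y', δ 9, ι 16, q, p, δ 13, y, δ 15, e, d] i else δ i,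
    fun i => ?_, rfl, rfl, rfl, rfl, rfl, rfl, a2, b2, c2, d2, e2, f2⟩
  split_ifs with hi
  · interval_cases i
    exacts [(show dl 0 = 1 from teq (.c 0) 1 (by decide +kernel)) ▸ S.one, (show dl 1 = 1 from teq (.c 1) 1 (by decide +kernel)) ▸ h.sz,
      h.inner (by decide +kernel), h.inner (by decide +kernel), hδ 4, h.inner (by decide +kernel), hδ 6, h.inner (by decide +kernel),
      a1, hδ 9, h.inner (by decide +kernel), e1, b1, hδ 13, c1, hδ 15, d1, f1]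
  · exact hδ i

theorem Lt.upd (L : Lt z ι γ) {t w : G} (ht : S ι t (dl 4)) (hw : S ι w (dl 6)) :
    Lt z ι fun i => if i = 4 then t else if i = 6 then w else γ i :=
  ⟨fun i => by split_ifs with h1 h2; exacts [h1 ▸ ht, h2 ▸ hw, L.s i], L.g1, L.g2, L.g3, L.g5, L.g7, L.g10, L.c8, L.c12, L.c14,
    L.e3, L.q3, L.d3⟩

instance nY (y : G) : ((zpowers y).subgroupOf (𝐂 (zpowers y))).Normal :=
  normal_subgroupOf_of_le_normalizer (centralizer_le_normalizer _)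

abbrev XQ (y : G) := 𝐂 (zpowers y) ⧸ (zpowers y).subgroupOf (𝐂 (zpowers y))

open Classical in
noncomputable def pj (y g : G) : XQ y := if h : g ∈ 𝐂 (zpowers y) then QuotientGroup.mk ⟨g, h⟩ else 1

/-- `x` is the image of `g` in `C(y)/⟨y⟩` -/
def T (y g : G) (x : XQ y) : Prop := ∃ h : g * y = y * g, QuotientGroup.mk ⟨g, mem_cent_zpowers.2 h⟩ = x

section
variable {x x' : XQ y}

theorem T.pj (h : g * y = y * g) : T y g (pj y g) := ⟨h, by rw [SuzT.pj, dif_pos (mem_cent_zpowers.2 h)]⟩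
theorem T.one : T y 1 1 := ⟨by simp, rfl⟩
theorem T.mul (h1 : T y a x) (h2 : T y b x') : T y (a * b) (x * x') := ⟨Commute.mul_left h1.1 h2.1, h1.2 ▸ h2.2 ▸ rfl⟩
theorem T.inv (h1 : T y a x) : T y a⁻¹ x⁻¹ := ⟨Commute.inv_left h1.1, h1.2 ▸ rfl⟩
theorem T.cj (h1 : T y a x) (h2 : T y b x') : T y (a * b * a⁻¹) (x * x' * x⁻¹) := (h1.mul h2).mul h1.inv
theorem T.pow (h : T y a x) (n : ℕ) : T y (a ^ n) (x ^ n) := ⟨Commute.pow_left h.1 n, h.2 ▸ rfl⟩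
theorem T.sur (x : XQ y) : ∃ g, T y g x := let ⟨g, e⟩ := QuotientGroup.mk_surjective x; ⟨g, mem_cent_zpowers.1 g.2, e⟩
theorem T.uniq (h1 : T y a x) (h2 : T y a x') : x = x' := h1.2.symm.trans h2.2
theorem T.ker (h1 : T y a x) (h2 : T y b x) : ∃ c ∈ zpowers y, b = a * c :=
  ⟨a⁻¹ * b, mem_subgroupOf.1 (QuotientGroup.eq.1 (h1.2.trans h2.2.symm)), by simp⟩
theorem T.of_mem (h : a ∈ zpowers y) : T y a 1 :=
  ⟨let ⟨n, e⟩ := h; e ▸ (Commute.refl y).zpow_left n, (QuotientGroup.eq_one_iff _).2 h⟩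
theorem T.cm (h : T y a x) (hb : b ∈ zpowers y) : Commute a b := let ⟨n, e⟩ := hb; e ▸ Commute.zpow_right h.1 n

theorem T.tm {δ : ℕ → XQ y} (h : ∀ i, T y (γ i) (δ i)) (t : Tm) : T y (t.ev γ []) (t.ev δ []) := by
  induction t with
  | c i => exact h i
  | v i => exact T.one
  | one => exact T.one
  | mul a b ha hb => exact ha.mul hb
  | inv a ha => exact ha.inv

theorem T.ev {δ : ℕ → XQ y} (h : ∀ i, T y (γ i) (δ i)) (w : List ℕ) : T y (ev γ w) (ev δ w) := by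
  induction w with
  | nil => exact T.one
  | cons i w ih => rw [Comp.ev_cons, Comp.ev_cons]; exact (h i).mul ih

theorem T.gen {l : List G} (h : ∀ a ∈ l, a * y = y * a) : x ∈ gen (l.map (SuzT.pj y)) ↔ ∃ g ∈ gen l, T y g x := by
  refine ⟨fun hx => ?_, fun ⟨g, hg, e⟩ => ?_⟩
  · induction hx using closure_induction with
    | mem x hx => obtain ⟨t, ht, rfl⟩ := List.mem_map.1 hx; exact ⟨t, mem_gen ht, T.pj (h t ht)⟩
    | one => exact ⟨1, one_mem _, T.one⟩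
    | mul x y _ _ hx hy => exact let ⟨a, h1, h2⟩ := hx; let ⟨b, h3, h4⟩ := hy; ⟨_, mul_mem h1 h3, h2.mul h4⟩
    | inv x _ hx => exact let ⟨a, h1, h2⟩ := hx; ⟨_, inv_mem h1, h2.inv⟩
  · suffices ∃ x' ∈ FO.gen (l.map (SuzT.pj y)), T y g x' from let ⟨_, h1, h2⟩ := this; h2.uniq e ▸ h1
    clear e
    induction hg using closure_induction with
    | mem x hx => exact ⟨_, mem_gen (List.mem_map_of_mem hx), T.pj (h x hx)⟩
    | one => exact ⟨1, one_mem _, T.one⟩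
    | mul x y _ _ hx hy => exact let ⟨a, h1, h2⟩ := hx; let ⟨b, h3, h4⟩ := hy; ⟨_, mul_mem h1 h3, h2.mul h4⟩
    | inv x _ hx => exact let ⟨a, h1, h2⟩ := hx; ⟨_, inv_mem h1, h2.inv⟩

theorem cube_mem (y3 : y ^ 3 = 1) (h : a ∈ zpowers y) : a ^ 3 = 1 := by
  obtain ⟨n, rfl⟩ := h
  rw [← zpow_natCast, ← zpow_mul, mul_comm, zpow_mul, zpow_natCast, y3, one_zpow]

theorem T.two (y3 : y ^ 3 = 1) (h1 : T y a x) (h2 : T y b x) (a4 : a ^ 4 = 1) (b4 : b ^ 4 = 1) : a = b := by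
  obtain ⟨c, hc, rfl⟩ := h1.ker h2
  rw [(h1.cm hc).mul_pow, a4, one_mul, pow_succ, cube_mem y3 hc, one_mul] at b4
  rw [b4, mul_one]

theorem SZ.eqT (h : SZ z Q ι) (y3 : y ^ 3 = 1) (h1 : T y a x) (h2 : T y b x) (s1 : S ι a σ) (s2 : S ι b σ) : a = b := by
  obtain ⟨c, hc, rfl⟩ := h1.ker h2
  rcases h.ker s2 s1 with e | e
  exacts [e.symm, (h.z1 (h.z3.symm.trans (cube_mem y3 (mul_left_cancel e ▸ hc)))).elim]

end

end Cfsg.Lib.SuzT
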