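import Cfsg.Agent.Lib.SuzT.B0

/-! The action of the involution centraliser of a group of Suzuki type on its extraspecial subgroup: centralisers and stabilisers. -/

set_option autoImplicit false
set_option maxRecDepth 100000

namespace Cfsg.Lib.SuzT

open Cfsg.Lib.FO Subgroup MulAction Cfsg.Lib.Psp43 Cfsg.Lib.Golay Cfsg.Lib.Golay.Coding Cfsg.Lib.PGrp
open Cfsg.Lib.MatB (inH_getL)

def gC : List Tm := [wd [7, 12, 6], wd [8, 14, 4]]
def gA : List Tm := [wd [10, 16], wd [7, 16, 7, 14], wd [16, 8, 8, 16, 9, 9], wd [10, 11]]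
def gB : List Tm := [wd [5, 11], wd [12, 12, 16, 13, 13, 6], wd [14, 5], wd [6, 12, 12, 7, 16, 7, 13, 13]]
def gKK : List Tm := [.c 1, .c 2, .c 3, .c 5, .c 7, .c 8, .c 12]

theorem chkC : enumB gC 2039 11 29 1728 (fun y => decide (app y 4 = 4 →
    (app y 1 = 1 → (app y 2 = 2 → app y 10 = 10 → anyL (mapL tB [1, .c 14, .c 15]) (Nat.beq y) = true) ∧
      (app y 2 = 70 → app y 10 = 79 → mulN 128 y y = idN 128 → y = tB (.c 4))) ∧
    (app y 1 = 5 → app y 2 = 2 → app y 10 = 8 → mulN 128 y y = idN 128 → y = tB (.c 6)))) = true := by decide +kernel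

theorem chkY : bfsH 1021 10 (mapL (conjN 128) g0) 17 (tB (.c 14)) (fun _ L => Nat.beq (lenL L) 960) = true := by decide +kernel

theorem chkK : chk 128 251 8 4 cz [gKK] (.ands ((gC.flatMap fun g => gKK.map fun k => .mem (g.cj k) 0) ++
    gC.map fun g => .cm g (.c 14))) = true := by decide +kernel

def uA (p : ℕ) : List Tm := 1 :: (List.range 3).flatMap fun a => YT a (.c 10) :: (List.range 6).map fun j => YT a (ET p j)
def uQ : List Tm := (List.range 3).flatMap fun a => [YT a (.c 11), YT a (Tm.cj (.c 7) (.c 11))]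

noncomputable def cb (y : ℕ) : Bool := forceN (mulN 128 (tC (.c 14)) y) fun g => forceN (mulN 128 g g) fun h =>
  Nat.beq (mulN 128 g h) (idN 128)

noncomputable def qA (p y : ℕ) : Bool := forceN (mulN 128 y y) fun s =>
  bif' (Nat.beq s (idN 128)) (bif' (cb y) (anyL (mapL tC (uA p)) (Nat.beq y)) true)
    (bif' (Nat.beq s (tC (.c 2))) (bif' (cb y) (anyL (mapL tC uQ) (Nat.beq y)) true) true)

theorem chkA : enumC gA 2039 11 26 1536 (qA 8) = true := by decide +kernel
theorem chkB' : enumC gB 2039 11 26 1536 (qA 12) = true := by decide +kernel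

end Cfsg.Lib.SuzT
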