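import Cfsg.Agent.Lib.SuzT.B0

/-! The action of the involution centraliser of a group of Suzuki type on its extraspecial subgroup: involutions and elements of order three. -/

set_option autoImplicit false
set_option maxRecDepth 100000

namespace Cfsg.Lib.SuzT

open Cfsg.Lib.FO Subgroup MulAction Cfsg.Lib.Psp43 Cfsg.Lib.Golay Cfsg.Lib.Golay.Coding Cfsg.Lib.PGrp
open Cfsg.Lib.MatB (inH_getL)

def gS : List Tm := [.c 7, .c 6, ET 8 2, YT 1 (ET 8 2)]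
def gD : List Tm := [.c 14, wd [18, 5, 19, 6, 12, 19, 20]]
def rp : ℕ → Tm := nt 1 [1, .c 2, .c 10, .c 4, .c 16, .c 4 * .c 6, .c 4 * .c 10]
def dI : List (List ℕ × ℕ) := [([], 0), ([13], 1), ([11, 17], 1), ([21], 1), ([12, 8], 1), ([19, 11, 17], 1), ([19, 8], 1), ([15, 19, 8], 1), ([18, 21], 1), ([11, 12, 8], 1), ([21,
  8], 1), ([17], 1), ([11, 17, 8], 1), ([19, 9], 1), ([14, 19, 9], 1), ([8], 1), ([11, 21, 8], 1), ([11, 21], 1), ([9], 1), ([14, 19, 8], 1), ([13, 8],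
  1), ([15, 19, 9], 1), ([21, 13], 1), ([17, 8], 1), ([9, 21], 1), ([12], 1), ([11, 21, 13], 1), ([], 1), ([18, 19], 2), ([6, 20, 14], 2), ([19, 19,
  15], 2), ([20, 14], 2), ([13, 16], 2), ([19, 20], 2), ([8, 11, 15], 2), ([19, 15], 2), ([11, 20], 2), ([13, 8, 16], 2), ([18, 20, 14], 2), ([11, 15],
  2), ([14], 2), ([8, 20], 2), ([13, 19], 2), ([21], 2), ([18, 20], 2), ([15], 2), ([8, 16], 2), ([20], 2), ([19, 6, 20], 2), ([], 2), ([19], 2), ([15,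
  19], 2), ([12, 11, 15], 2), ([15, 13, 19], 2), ([19, 21, 19], 2), ([16], 2), ([19, 19], 2), ([17, 18, 19], 2), ([11, 13, 19], 2), ([11, 20, 14], 2),
  ([20, 19], 2), ([6, 20], 2), ([12, 16], 2), ([21, 19], 2), ([7, 5], 3), ([14, 7, 19], 3), ([19, 5], 3), ([15, 19], 3), ([15, 7, 19], 3), ([18, 7], 3),
  ([], 3), ([13, 18], 3), ([7], 3), ([14, 19], 3), ([19, 7], 3), ([18, 5], 3), ([15, 19, 5], 3), ([7, 19], 3), ([14, 19, 7], 3), ([19], 3), ([5], 3),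
  ([18], 3), ([15, 19, 7], 3), ([14, 19, 5], 3), ([15, 6, 20, 9], 4), ([19, 11, 13, 7], 4), ([19, 14], 4), ([10], 4), ([15, 8, 20, 9], 4), ([15], 4),
  ([15, 19, 7], 4), ([18, 20, 12, 7], 4), ([11, 20, 10, 9], 4), ([10, 8, 7], 4), ([15, 8, 16, 9], 4), ([15, 9, 19], 4), ([9, 19, 18], 4), ([11, 8, 19,
  7], 4), ([14, 8, 21, 9], 4), ([18, 8, 16, 9], 4), ([18, 19], 4), ([11, 12, 20, 8], 4), ([15, 19, 10], 4), ([14, 10, 8], 4), ([16, 10, 8], 4), ([8, 11,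
  9], 4), ([5, 19, 20, 12], 4), ([17, 19, 20, 8], 4), ([15, 8, 19, 10], 4), ([17, 4, 19, 20, 8], 4), ([19, 20, 12], 4), ([18, 13], 4), ([9, 19, 7], 4),
  ([15, 19, 7, 19], 4), ([11, 8], 4), ([15, 16, 9], 4), ([15, 19, 20, 12], 4), ([8, 19, 7], 4), ([18, 19, 15], 4), ([8, 11, 21, 9], 4), ([15, 12, 20,
  8], 4), ([19, 14, 10], 4), ([14, 19, 19, 10], 4), ([19, 11, 20, 12], 4), ([11, 9, 19], 4), ([11, 8, 19], 4), ([21, 14, 16, 9], 4), ([19, 16, 13, 7],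
  4), ([15, 19, 12], 4), ([8, 11, 8], 4), ([14, 20, 9], 4), ([19, 14, 19, 10], 4), ([15, 19, 18], 4), ([16, 8, 18], 4), ([16, 11, 8, 7], 4), ([18, 15,
  19, 14], 4), ([11, 15, 20, 9], 4), ([19, 19, 10], 4), ([14, 16, 9], 4), ([19, 13, 7], 4), ([19, 14, 19, 7], 4), ([10, 9], 4), ([14, 19, 14], 4), ([11,
  18, 13], 4), ([14, 8], 4), ([14, 19, 18], 4), ([15, 12, 16, 13], 4), ([], 4), ([13, 21, 12], 4), ([6, 20, 10, 9], 4), ([19, 7], 4), ([15, 10, 7], 4),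
  ([15, 10], 4), ([18, 19, 18], 4), ([11, 21, 10, 9], 4), ([14, 19, 15, 7], 4), ([12, 6, 20, 8], 4), ([8, 11, 20, 9], 4), ([19, 19, 7], 4), ([10, 7],
  4), ([15, 8], 4), ([8, 19, 10], 4), ([15, 19, 19, 15], 4), ([10, 9, 7], 4), ([7, 11, 15, 9], 4), ([14, 13, 11, 12], 4), ([14, 10, 9], 4), ([18, 19,
  14], 4), ([14, 11, 20, 9, 7], 4), ([11, 9], 4), ([18, 15, 19, 7], 4), ([21, 11, 18, 13], 4), ([18, 7, 19], 4), ([19, 18], 4), ([17, 19, 20, 8, 7], 4),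
  ([21, 15, 16, 9], 4), ([11, 14, 8], 4), ([9, 21, 9], 4), ([15, 20, 10, 9], 4), ([19, 19, 15, 7], 4), ([15, 7, 19], 4), ([16, 8, 7], 4), ([19, 15], 4),
  ([15, 19, 15, 7], 4), ([14, 20, 10, 9], 4), ([15, 20, 9, 7], 4), ([18, 13, 10], 4), ([15, 19, 19, 10], 4), ([13, 11, 12, 19, 7], 4), ([8], 4), ([9,
  11, 15, 8], 4), ([11, 9, 21, 9], 4), ([19, 18, 8], 4), ([14, 19, 20, 12, 7], 4), ([19, 8, 21, 9], 4), ([19, 9, 11, 14, 8], 4), ([11, 8, 7], 4), ([19,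
  20, 12, 7], 4), ([14, 7, 11, 9], 4), ([18, 15, 19], 4), ([12, 16, 13], 4), ([11, 14, 9], 4), ([15, 11, 9], 4), ([14, 12, 20, 8], 4), ([9, 11, 14, 8],
  4), ([15, 16, 8, 7], 4), ([21, 10, 9], 4), ([16, 11, 8], 4), ([18, 19, 15, 7], 4), ([19, 14, 19], 4), ([13, 11, 12], 4), ([19, 19, 18], 4), ([14, 21,
  9], 4), ([7, 19], 4), ([11, 6, 20, 9], 4), ([11, 6, 20, 9, 7], 4), ([18, 10], 4), ([15, 20, 9], 4), ([15, 21, 9], 4), ([18, 8, 11, 9], 4), ([14, 16,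
  8], 4), ([18, 20, 12], 4), ([19], 4), ([19, 8, 16, 9], 4), ([19, 14, 20, 12], 4), ([16, 14, 8], 4), ([20, 10, 9], 4), ([19, 19, 19, 10], 4), ([16, 14,
  9], 4), ([21, 11, 14, 9], 4), ([7], 4), ([19, 19, 19, 14], 4), ([19, 13], 4), ([10, 8], 4), ([15, 8, 7], 4), ([19, 19, 18, 10], 4), ([19, 20, 12, 10],
  4), ([21, 15, 9], 4), ([14, 19, 7, 19], 4), ([14, 19, 7], 4), ([19, 15, 19], 4), ([15, 9, 19, 7], 4), ([19, 21, 12], 4), ([14, 9], 4), ([18, 19, 10],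
  4), ([14, 19, 14, 10], 4), ([16, 9], 4), ([14, 19, 19], 4), ([16, 8, 11, 8], 4), ([14, 11, 9], 4), ([11, 9, 7], 4), ([19, 19, 15], 4), ([15, 9], 4),
  ([14, 19, 19, 7], 4), ([14, 11, 8], 4), ([8, 16, 8], 4), ([8, 19, 14], 4), ([13, 11, 12, 7], 4), ([14, 19], 4), ([11, 20, 9, 7], 4), ([9, 7], 4),
  ([11, 15, 9], 4), ([15, 8, 21, 9], 4), ([15, 19, 18, 10], 4), ([15, 16, 8], 4), ([18, 14, 19, 7], 4), ([19, 19, 14], 4), ([13, 11, 12, 19], 4), ([11,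
  19, 20, 12], 4), ([11, 10, 8, 7], 4), ([17, 18, 20, 8], 4), ([6, 20, 9], 4), ([15, 13, 21, 12], 4), ([9, 19], 4), ([11, 21, 9], 4), ([21, 14, 9], 4),
  ([14], 4), ([19, 15, 7], 4), ([19, 15, 19, 10], 4), ([19, 19, 14, 10], 4), ([19, 18, 10], 4), ([19, 7, 19], 4), ([19, 14, 19, 15], 4), ([18, 14, 19],
  4), ([16, 11, 9], 4), ([13, 11, 21, 12], 4), ([7, 11, 9], 4), ([15, 7], 4), ([15, 13, 16, 12], 4), ([8, 16, 9], 4), ([19, 8, 11, 9], 4), ([19, 10],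
  4), ([14, 6, 20, 9], 4), ([18, 21, 12], 4), ([15, 8, 19], 4), ([19, 13, 10], 4), ([21, 19, 13, 7], 4), ([18], 4), ([11, 15, 10, 8], 4), ([8, 19], 4),
  ([13, 16, 12], 4), ([15, 19, 15], 4), ([20, 9], 4), ([14, 11, 20, 9], 4), ([11, 18, 20, 12], 4), ([15, 13, 11, 12], 4), ([6, 20, 9, 7], 4), ([15, 19,
  19], 4), ([18, 15, 19, 18], 4), ([14, 19, 15], 4), ([19, 19, 7, 19], 4), ([21, 9], 4), ([11, 15, 8], 4), ([20, 9, 7], 4), ([8, 18], 4), ([15, 19, 14],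
  4), ([11, 8, 18], 4), ([18, 14, 19, 10], 4), ([15, 19], 4), ([18, 15, 19, 10], 4), ([9], 4), ([8, 20, 9], 4), ([14, 10], 4), ([14, 20, 9, 7], 4),
  ([13, 11, 18, 8], 4), ([16, 11, 10, 8], 4), ([8, 7], 4), ([11, 15, 8, 7], 4), ([19, 11, 13], 4), ([9, 11, 20, 9], 4), ([16, 8, 19], 4), ([19, 15, 19,
  7], 4), ([11, 20, 9], 4), ([19, 19, 19, 7], 4), ([19, 19, 19], 4), ([14, 19, 10], 4), ([16, 8], 4), ([19, 12], 4), ([8, 21, 9], 4), ([15, 19, 19, 7],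
  4), ([15, 10, 8], 4), ([19, 19], 4), ([12, 20, 8], 4), ([11, 10, 8], 4), ([18, 19, 7], 4), ([14, 13, 11, 12, 7], 4), ([21, 15, 21, 9], 4), ([8, 18,
  10], 4), ([13, 16, 12], 5), ([21, 11, 21, 9], 5), ([11, 20, 9, 3], 5), ([15, 19, 3], 5), ([15, 19, 19], 5), ([18, 20, 12], 5), ([15, 19, 20, 12], 5),
  ([14, 8, 19, 19, 3], 5), ([7, 19], 5), ([17, 18, 20, 8], 5), ([18, 19, 3], 5), ([8, 19, 19, 3], 5), ([19, 13, 19], 5), ([19, 11, 20, 12], 5), ([19,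
  20, 12], 5), ([18, 20, 12, 3], 5), ([13, 21, 12], 5), ([14, 20, 9], 5), ([18, 7, 19], 5), ([21, 11, 9], 5), ([20, 9, 3], 5), ([14, 19, 3], 5), ([8,
  20, 9], 5), ([15, 20, 9], 5), ([14, 19], 5), ([8, 19, 19], 5), ([17, 13, 11, 9], 5), ([19, 13, 19, 3], 5), ([20, 7, 9], 5), ([15, 7, 19], 5), ([18,
  15, 19, 7], 5), ([19, 20, 11, 12], 5), ([14, 19, 19, 3], 5), ([19, 3], 5), ([9, 20, 9], 5), ([21, 11, 9, 3], 5), ([21, 14, 11, 9], 5), ([20, 9], 5),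
  ([8, 11, 20, 9], 5), ([14, 19, 19], 5), ([6, 20, 9, 7], 5), ([19, 7], 5), ([15, 19], 5), ([14, 19, 19, 7], 5), ([19, 19], 5), ([3], 5), ([17, 11, 9],
  5), ([11, 20, 7, 9], 5), ([11, 6, 20, 9], 5), ([18, 19, 7], 5), ([20, 11, 9], 5), ([19, 14, 19], 5), ([17, 12, 11, 9], 5), ([6, 20, 7, 9], 5), ([21,
  11, 16, 9], 5), ([9, 17, 11, 9], 5), ([9, 18, 19], 5), ([11, 20, 9], 5), ([19, 20, 12, 3], 5), ([8, 18, 19, 3], 5), ([15, 21, 11, 9], 5), ([15, 19,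
  7], 5), ([6, 20, 9], 5), ([19, 19, 7], 5), ([8, 11, 9], 5), ([11, 9, 20, 9], 5), ([18, 13, 19], 5), ([18, 19], 5), ([11, 20, 9, 7], 5), ([14, 19, 7],
  5), ([16, 8, 18, 19], 5), ([19], 5), ([14, 8, 19, 19], 5), ([18, 15, 19], 5), ([9, 19, 19, 3], 5), ([19, 7, 19], 5), ([17, 19, 20, 8], 5), ([18, 15,
  19, 3], 5), ([19, 14, 19, 3], 5), ([], 5), ([19, 19, 3], 5), ([15, 19, 19, 3], 5), ([12, 16, 13], 5), ([7], 5), ([9, 19, 19], 5), ([8, 18, 19], 5),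
  ([7, 3], 5), ([20, 9, 7], 5), ([19, 18], 6), ([15], 6), ([14, 19, 19], 6), ([19, 19, 5], 6), ([19, 19, 15], 6), ([], 6), ([7, 5], 6), ([15, 7, 5], 6),
  ([7], 6), ([8, 21, 5], 6), ([15, 19, 5], 6), ([14, 19, 5], 6), ([18, 19, 5], 6), ([15, 19, 7], 6), ([19, 19, 7], 6), ([18, 5], 6), ([15, 7, 19], 6),
  ([15, 19, 14], 6), ([17, 12], 6), ([7, 19], 6), ([14, 19], 6), ([14], 6), ([18, 15, 5], 6), ([15, 19], 6), ([18, 7], 6), ([19, 7], 6), ([18], 6),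
  ([15, 19, 15], 6), ([14, 5], 6), ([19, 8, 21], 6), ([19, 14], 6), ([8, 20], 6), ([19, 14, 19], 6), ([15, 7], 6), ([18, 15], 6), ([8, 20, 14], 6),
  ([13, 11, 12], 6), ([13, 18], 6), ([12, 11, 13], 6), ([18, 15, 7], 6), ([8, 21], 6), ([14, 19, 19, 5], 6), ([15, 8, 21], 6), ([14, 19, 15], 6), ([7,
  19, 14], 6), ([19, 15], 6), ([15, 19, 14, 5], 6), ([18, 19], 6), ([21, 12, 5], 6), ([15, 5], 6), ([21, 12], 6), ([19, 14, 5], 6), ([14, 7], 6), ([19,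
  5], 6), ([19, 14, 19, 5], 6), ([5], 6), ([8, 21, 7], 6), ([19, 19], 6), ([19, 14, 7], 6), ([19], 6)]
def dD : List (List ℕ) := [[20, 19, 19, 20, 10], [21, 18, 21, 16, 11], [], [17], [11, 20, 19, 8, 16], [19, 12, 19, 20]]

theorem chkS : frc (mapL tC (dI.map fun p => (wd p.1).cj (rp p.2))) (fun X => enumC gS 4093 12 66 4096 fun y =>
    bif' (Nat.beq (mulN 128 y y) (idN 128)) (anyL X (Nat.beq y)) true) = true := by decide +kernel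

theorem chkD : frc (mapL tB (1 :: dD.map fun p => (wd p).cj (.c 14))) (fun X => enumB gD 127 7 3 81 fun y =>
    bor (anyL X (Nat.beq y)) (Nat.ble (countN 128 fun k => Nat.beq (app y k) k) 8)) = true := by decide +kernel

end Cfsg.Lib.SuzT
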