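import Cfsg.Agent.Lib.SuzT.B1
import Cfsg.Agent.Lib.SuzT.B2

/-! Facts on the model of the involution centraliser. -/

set_option autoImplicit false
set_option maxRecDepth 100000

namespace Cfsg.Lib.SuzT

open Cfsg.Lib.FO Subgroup MulAction Cfsg.Lib.Golay Cfsg.Lib.Golay.Coding Cfsg.Lib.Psp43

theorem Fm.ands_iff {G : Type*} [Group G] {C : ℕ → G} {A : List (Subgroup G)} {e : List G} {l : List Fm} :
    (Fm.ands l).P C A e ↔ ∀ f ∈ l, f.P C A e := by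
  induction l with
  | nil => simp [Fm.ands, Fm.P]
  | cons f l ih => cases l with
    | nil => simp [Fm.ands]
    | cons g l => rw [List.forall_mem_cons, ← ih]; rfl

theorem fK : (∀ g ∈ gC, ∀ k ∈ gKK, tP g * tP k * (tP g)⁻¹ ∈ gen (gKK.map tP)) ∧ ∀ g ∈ gC, tP g * dl 14 = dl 14 * tP g := by
  have := Fm.ands_iff.1 (chk_sound' (subtype_injective _) RP chkK)
  exact ⟨fun g hg k hk => this (.mem (g.cj k) 0) (List.mem_append_left _ (List.mem_flatMap.2 ⟨g, hg, List.mem_map_of_mem hk⟩)),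
    fun g hg => this (.cm g (.c 14)) (List.mem_append_right _ (List.mem_map_of_mem hg))⟩

theorem nK {σ κ : Pm} (hσ : σ ∈ gen (gC.map tP)) (hκ : κ ∈ gen (gKK.map tP)) : σ * κ * σ⁻¹ ∈ gen (gKK.map tP) :=
  (mem_normalizer_iff.1 (gen_le.2 (fun _ h => let ⟨g, hg, e⟩ := List.mem_map.1 h; e ▸ norm_gen fun _ h =>
    let ⟨k, hk, e⟩ := List.mem_map.1 h; e ▸ fK.1 g hg k hk) hσ) κ).1 hκ

theorem trU {k : ℕ} (hk : k < 128) (e : mu k k = 0) (h0 : k ≠ 0) (h1 : k ≠ 64) : ∃ σ ∈ PH, σ 4 = ⟨k, hk⟩ := by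
  obtain ⟨t, L, h2, h3⟩ := bfs_gen c128.ptCode app (fun g hg => (g0_v g hg).impl_pt) (x0 := 4) (by norm_num [ptCode, finCoding])
    (by decide +kernel : bfs (fun i => i) (mapL app g0) 0 4 4 (fun _ L => allN 128 fun k =>
      decide (mu k k = 0 → k ≠ 0 → k ≠ 64 → anyL L (Nat.beq k) = true)) = true)
  obtain ⟨x, hx, e⟩ := anyL_iff.1 (of_decide_eq_true (allN_iff.1 h2 k hk) e h0 h1)
  obtain ⟨σ, hσ, e1⟩ := mem_orbit_subgroup.1 (h3.sub x hx)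
  exact ⟨σ, hσ, e1.trans (Fin.ext (beq_iff.1 e ▸ Nat.mod_eq_of_lt hk))⟩

variable (hc : Nat.card PH = 1658880) {σ : Pm} (hσ : σ ∈ PH)
include hc

theorem cenY : gen (gC.map tP) = PH ⊓ centralizer {dl 14} :=
  eq_of_le_of_card_ge (le_inf (gen_PH _) (gen_le.2 fun _ h => let ⟨g, hg, e⟩ := List.mem_map.1 h
    e ▸ mem_centralizer_singleton_iff.2 (fK.2 g hg))) (by
    rw [(enumP chkC).1]
    exact (card_centralizer rfl g0_v (RP 14).1.1 (n := 960) (N := 1728) hc chkY).le)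

theorem stab2 {l1 l2 : List (ℕ × ℕ × List (List ℕ))} (ch : chain 128 (l1 ++ l2) g0 = true) {ts : List Tm} {j : Fin 128}
    (e : chainProd (l1 ++ l2) = 1658880 ∧ chainProd l2 = 1536 ∧ (∀ l ∈ l1, l.1 = 4 ∨ l.1 = j) ∧
      ∀ t ∈ ts, app (tB t) 4 = 4 ∧ app (tB t) j = j) (cg : Nat.card (gen (ts.map tP)) = 1536) :
    gen (ts.map tP) = PH ⊓ stabilizer Pm (4 : Fin 128) ⊓ stabilizer Pm j :=
  eq_of_le_of_card_ge (le_inf (le_inf (gen_PH _) (gen_le.2 fun _ h => let ⟨g, hg, k⟩ := List.mem_map.1 h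
    k ▸ Fin.ext (((cd g).app 4).trans (e.2.2.2 g hg).1))) (gen_le.2 fun _ h => let ⟨g, hg, k⟩ := List.mem_map.1 h
    k ▸ Fin.ext (((cd g).app j).trans (e.2.2.2 g hg).2))) (by
    rw [cg, ← e.2.1]
    refine chain_exact l1 l2 g0_in ch (hc.trans e.1.symm).le (inf_le_left.trans inf_le_left) fun σ hσ l hl => ?_
    rcases e.2.2.1 l hl with k | k <;> rw [k]
    exacts [hσ.1.2, (c128.pt_idx j).symm ▸ hσ.2])

include hσ

theorem clA {p : ℕ} {j : Fin 128} (hp : p = 8 ∧ j = 1 ∨ p = 12 ∧ j = 2) (h4 : σ 4 = 4) (hj : σ j = j) (e : (dl 14 * σ) ^ 3 = 1) :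
    (σ * σ = 1 → ∃ t ∈ uA p, σ = tP t) ∧ (σ * σ = dl 2 → ∃ t ∈ uQ, σ = tP t) := by
  obtain ⟨y, r, q⟩ : ∃ y, Ce y σ ∧ qA p y = true := by
    rcases hp with ⟨rfl, rfl⟩ | ⟨rfl, rfl⟩
    · exact (enumQ chkA).2 σ ((stab2 hc chA (j := 1) (by decide +kernel) (enumQ chkA).1).ge ⟨⟨hσ, h4⟩, hj⟩)
    · exact (enumQ chkB').2 σ ((stab2 hc chB (j := 2) (by decide +kernel) (enumQ chkB').1).ge ⟨⟨hσ, h4⟩, hj⟩)
  have r3 := ((RP2 14).mul r).mul (((RP2 14).mul r).mul ((RP2 14).mul r))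
  rw [← pow_three, e] at r3
  have k : cb y = true := by rw [cb, forceN_eq, forceN_eq]; exact beq_iff.2 ((Ce.one r3).2 rfl)
  rw [qA, forceN_eq, k] at q
  refine ⟨fun s => ?_, fun s => ?_⟩
  · rw [show mulN 128 y y = idN 128 from (Ce.one (r.mul r)).2 s, beq_iff.2 rfl] at q
    exact r.any q
  · rw [show mulN 128 y y = tC (.c 2) from (Ce.eq (r.mul r) (RP2 2)).2 s, show Nat.beq (tC (.c 2)) (idN 128) = false by decide +kernel,
      beq_iff.2 rfl] at q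
    exact r.any q

theorem fixU (h4 : σ 4 = 4) (e : σ ^ 3 = 1) : ∃ τ ∈ PH, τ 4 = 4 ∧ τ⁻¹ * σ * τ ∈ zpowers (dl 14) := by
  obtain ⟨τ, h1, h2⟩ := exists_conj_mem (H := PH ⊓ stabilizer Pm (c128.pt 4)) (S := zpowers (dl 14)) (p := 3) (by norm_num)
    (zpowers_le.2 ⟨dl_mem 14, Fin.ext ((dl_app 14 4).trans (by decide +kernel))⟩) (n := 10240) (by
      rw [(stab_pt_cert rfl g0_in 4 (by norm_num [finCoding]) (n := 54) (N := 30720) hc (by decide +kernel)).2, Nat.card_zpowers]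
      rw [show orderOf (dl 14) = 3 from (RP 14).1.1.orderOf_eq (p := 3) (by norm_num) (by decide +kernel)]) (by norm_num) ⟨hσ, h4⟩ (k := 1) e
  exact ⟨τ, h1.1, h1.2, h2⟩

theorem invol (e : σ * σ = 1) : ∃ τ ∈ PH, ∃ r < 7, σ = τ * tP (rp r) * τ⁻¹ := by
  have k := chkS
  rw [frc_eq] at k
  obtain ⟨τ, h1, h2⟩ := exists_conj_mem (p := 2) (by norm_num) (gen_PH gS) (n := 405) (by rw [hc, (enumQ k).1]) (by norm_num) hσ
    (k := 1) ((pow_two σ).trans e)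
  obtain ⟨y, r, q⟩ := (enumQ k).2 _ h2
  rw [show mulN 128 y y = idN 128 from (Ce.one (r.mul r)).2 (by simp [mul_assoc, ← mul_assoc σ, e]), beq_iff.2 rfl, bif'_true] at q
  obtain ⟨_, ht, e1⟩ := r.any q
  obtain ⟨p, hp, rfl⟩ := List.mem_map.1 ht
  refine ⟨τ * tP (wd p.1), mul_mem h1 (tP_mem _), p.2, (by decide +kernel : ∀ p ∈ dI, p.2 < 7) p hp, ?_⟩
  exact (U43.cjc2 e1.symm (by group)).symm

theorem ord3 (e : σ ^ 3 = 1) (h : 8 < (Finset.univ.filter fun k => σ k = k).card) : σ = 1 ∨ ∃ τ ∈ PH, σ = τ * dl 14 * τ⁻¹ := by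
  have k := chkD
  rw [frc_eq] at k
  obtain ⟨τ, h1, h2⟩ := exists_conj_mem (p := 3) (by norm_num) (gen_PH gD) (n := 20480) (by rw [hc, (enumP k).1]) (by norm_num) hσ
    (k := 1) e
  obtain ⟨y, r, q⟩ := (enumP k).2 _ h2
  rw [bor_eq, Bool.or_eq_true] at q
  rcases q with q | q
  · obtain ⟨_, ht, e1⟩ := r.any q
    rcases List.mem_cons.1 ht with rfl | ht
    · exact .inl (conj_eq_one_iff.1 (show τ⁻¹ * σ * τ⁻¹⁻¹ = 1 from e1))
    · obtain ⟨p, hp, rfl⟩ := List.mem_map.1 ht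
      exact .inr ⟨τ * tP (wd p), mul_mem h1 (tP_mem _), (U43.cjc2 e1.symm (by group)).symm⟩
  · have := filter_fix_conj τ⁻¹ σ
    rw [inv_inv] at this
    rw [← Finset.card_smul_finset τ⁻¹, ← this] at h
    rw [ble_iff, countN_eq] at q
    refine absurd (h.trans_le (le_trans ?_ q)) (lt_irrefl _)
    exact Finset.card_le_card_of_injOn Fin.val (fun k hk => by
      simpa [beq_iff, ← r.app k, Fin.val_inj] using (Finset.mem_filter.1 hk).2) Fin.val_injective.injOn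

end Cfsg.Lib.SuzT
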