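import Cfsg.Agent.Lib.SuzT.B3
import Cfsg.Agent.Lib.U43.Ident
import Cfsg.Agent.Lib.Comp.Suz.Base

/-! Groups of Suzuki type: block permutations and words. -/

set_option autoImplicit false
set_option maxRecDepth 100000
set_option synthInstance.maxSize 100000

namespace Cfsg.Lib.SuzT

open Cfsg.Lib.FO Subgroup Cfsg.Lib.Golay Cfsg.Lib.U43
open Cfsg.Lib.Psp43 hiding cjm
open Cfsg.Lib.Comp (Rels ev)

def acw (tb : ℕ → ℕ → ℕ) (w : List ℕ) : ℕ → ℕ := w.foldr (fun i r j => tb i (r j)) id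

def sb (a b : Tm) (w : List ℕ) : Tm := w.foldr (fun i t => (if i = 14 then a else if i = 15 then b else .c i) * t) 1

def tb (l : List ℕ) (i : ℕ) : ℕ → ℕ := nt 0 (nt [] [[], [], [], [0, 1, 3, 2, 5, 4], [0, 1, 4, 5, 2, 3], [0, 1, 3, 2, 5, 4],
  [0, 1, 4, 5, 2, 3], [1, 0, 2, 3, 5, 4], [2, 3, 4, 5, 0, 1], [], l, [], [2, 3, 4, 5, 0, 1]] i)

/-- data for the two elementary abelian groups of order 16 -/
structure Dt where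
  p : ℕ
  j : Fin 128
  r : Tm
  l : List ℕ
  P : List (List ℕ × List ℕ)
  K : List (List ℕ × List ℕ)

def dA : Dt := ⟨8, 1, .c 4 * .c 3, [5, 6, 7, 8], [([10, 10, 10], []), ([10, 5], [6, 5, 10]), ([10, 6], [5, 10]), ([7, 10, 7, 10], [])],
  [([0, 1, 2, 5, 3, 4], [8, 6, 10, 8]), ([0, 1, 4, 3, 5, 2], [8, 10, 8])]⟩
def dB : Dt := ⟨12, 2, .c 6, [3, 4, 7, 12], [([10, 10, 10], []), ([10, 3], [4, 10]), ([10, 4], [4, 3, 10]), ([7, 10, 7, 10], [])],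
  [([0, 1, 2, 4, 5, 3], [12, 10, 3, 12]), ([0, 1, 5, 3, 2, 4], [12, 3, 10, 12])]⟩

noncomputable abbrev cY (t : Tm) : Prop := Nat.beq (tB (t.cj (.c 14))) (tB (.c 14)) = true
noncomputable abbrev cK (r t : Tm) : Prop := Nat.beq (tB (r.cj t)) (tB t) = true
noncomputable abbrev uB (t : Tm) : ℕ := t.B 112 gsU []

theorem ckD : ∀ d ∈ [dA, dB], (cY d.r ∧ ∀ j < 6, cY (tp (.c d.p) (j / 2) * tp (.c 7) (j % 2)) ∧ cK (.c 2) (ET d.p j) ∧ cK d.r (ET d.p j) ∧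
      (∀ j' < 6, ∀ t ∈ [1, .c 14, (Tm.c 14)⁻¹], tB (ET d.p j) = tB (t.cj (ET d.p j')) → j = j') ∧
      ∀ i ∈ d.l, tb [] i j < 6 ∧ ∃ n < 3, Nat.beq (tB ((Tm.c i).cj (ET d.p j))) (tB (YT n (ET d.p (tb [] i j)))) = true) ∧
    (∀ i ∈ d.l, cY (.c i) ∧ i ∈ [3, 4, 5, 6, 7, 8, 12]) ∧
    (∀ q ∈ d.P, (∀ i ∈ q.1 ++ q.2, i ∈ 10 :: d.l) ∧ Nat.beq (uB (wd q.1)) (uB (wd q.2)) = true) ∧
    ∀ q ∈ d.K, tb q.1 10 0 = 0 ∧ acw (tb q.1) q.2 0 = 0 ∧ ∀ i ∈ q.2, i ∈ 10 :: d.l := by decide +kernel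

theorem ckS : ∀ d ∈ [dA, dB], ∀ a < 6, ∀ b < 6, ∀ c < 6, ∀ e < 6, ∀ f < 6, ∀ g < 6,
    (∀ q ∈ d.P, ∀ j < 6, acw (tb [a, b, c, e, f, g]) q.1 j = acw (tb [a, b, c, e, f, g]) q.2 j) →
    ∃ q ∈ d.K, q.1 = [a, b, c, e, f, g] := by decide +kernel

noncomputable def RG : List (List ℕ × ℕ) := ([2, 3, 6, 7], 6) :: Comp.Suz.R.filter fun r => r.1.all fun x => x ≠ 4 ∧ x ≠ 5

def cs : List (List ℕ × List ℕ × List ℕ × List ℕ × List ℕ) := [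
  ([8, 10, 8], [12, 10, 3, 12], [14, 15, 14, 10, 3, 2], [10, 14, 15, 6, 2, 14], [3, 14, 2, 1, 14, 1, 14, 5, 3]),
  ([8, 10, 8], [12, 3, 10, 12], [3, 14, 15, 14, 5, 14], [3, 15, 14, 15, 10, 15, 2], [1, 14, 2, 1, 14, 1, 14, 5]),
  ([8, 6, 10, 8], [12, 10, 3, 12], [11, 15, 14, 15, 15, 11], [6, 10, 14, 1, 15, 14], [5, 3, 14, 2, 1, 14, 1, 14, 3, 1]),
  ([8, 6, 10, 8], [12, 3, 10, 12], [2, 14, 15, 14, 6, 10], [14, 3, 10, 14, 15, 15, 14], [5, 1, 14, 2, 1, 14, 1, 14])]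

def pW : List ℕ := [14, 5, 2, 14, 3, 14, 2, 15, 14, 5, 14, 15, 14, 2, 14, 1]
def κT : Tm := wd [12, 8, 8, 7]

theorem ckC : ∀ q ∈ dA.K, ∀ q' ∈ dB.K, ∃ c ∈ cs, let b := sb (wd q.2) (wd q'.2) c.2.2.1; let b' := sb (wd q.2) (wd q'.2) c.2.2.2.1
    (∀ i ∈ c.2.2.1 ++ c.2.2.2.1, i ∈ [14, 15, 1, 2, 3, 4, 5, 6, 10, 11]) ∧ (∀ i ∈ c.2.2.2.2 ++ pW, i ∈ [14, 15, 1, 2, 3, 5]) ∧
    frc (mapL uB [1, .c 1, b, .c 2, 1, 1, .c 3, .c 5]) (fun l => MatB.presB 112 l id RG) = true ∧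
    (∀ x ∈ [(κT.cj b', b), (b' * b', 1), (tp (b * (.c 2 * (.c 7 * .c 5))) 5, 1), (sb b (.c 7 * .c 5) c.2.2.2.2, .c 10),
      (sb b (.c 7 * .c 5) pW, .c 12)], Nat.beq (uB x.1) (uB x.2) = true) ∧ uB (b * (.c 2 * (.c 3 * (.c 5 * 1)))) ≠ idN 112 := by
  decide +kernel

end Cfsg.Lib.SuzT
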