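import Cfsg.Agent.Lib.SuzT.A4
import Cfsg.Agent.Lib.SuzT.B3
import Cfsg.Agent.Lib.Known2.LE2

/-! Groups of Suzuki type: the centraliser of an element of order three is of type `3·U₄(3)`. -/

set_option autoImplicit false
set_option maxRecDepth 100000
set_option linter.unusedSectionVars false

namespace Cfsg.Lib.SuzT

open Cfsg.Lib.FO Subgroup Cfsg.Lib.Golay Cfsg.Lib.Known2 Cfsg.Lib.Amalg Cfsg.Lib.U43
open Cfsg.Lib.Psp43 hiding cjm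
open Cfsg.Lib.Comp (Rels ev)

variable {G : Type*} [Group G] [Finite G] {z : G} {Q : Subgroup G} {ι γ : ℕ → G} {g g' a b y : G} {σ τ : Pm}

theorem zp3 {G : Type*} [Group G] {a y : G} (y3 : y ^ 3 = 1) (h : a ∈ zpowers y) : a = 1 ∨ a = y ∨ a = y⁻¹ := by
  obtain ⟨n, rfl⟩ := h
  have e : y ^ (3 : ℤ) = 1 := by exact_mod_cast y3
  have k : y ^ n = y ^ (n % 3) := by nth_rw 1 [← Int.emod_add_mul_ediv n 3]; rw [zpow_add, zpow_mul, e, one_zpow, mul_one]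
  obtain h | h | h : n % 3 = 0 ∨ n % 3 = 1 ∨ n % 3 = 2 := by omega
  all_goals simp only [k, h]
  exacts [.inl (zpow_zero y), .inr (.inl (zpow_one y)), .inr (.inr (eq_inv_of_mul_eq_one_left ((zpow_add_one y 2).symm.trans e)))]

theorem card_rel {G' : Type*} [Group G'] {K N : Subgroup G} (f : K →* G') (h : N ≤ K) (e : ∀ k, f k = 1 ↔ k.1 ∈ N) :
    Nat.card N * Nat.card f.range = Nat.card K := by
  rw [← index_ker, ← Nat.card_congr (subgroupOfEquivOfLe h).toEquiv, show N.subgroupOf K = f.ker from Subgroup.ext fun k => (e k).symm,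
    card_mul_index]

theorem T.nt {l : List G} {l' : List (XQ y)} (h : List.Forall₂ (T y) l l') (i : ℕ) : T y (nt 1 l i) (nt 1 l' i) := by
  induction h generalizing i with
  | nil => exact T.one
  | cons h _ ih => cases i with
    | zero => exact h
    | succ i => exact ih i

theorem cjp {g a : G} {n : ℕ} (h : a ^ n = 1) : (g * a * g⁻¹) ^ n = 1 := by rw [conj_pow, h]; simp

def ix : ℕ → ℕ := nt 0 [0, 64, 4, 1, 2, 10]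
def eQ (w : List ℕ) : ℕ := w.foldr (fun x r => mu (ix x) r) 0

set_option hygiene false in
local notation "𝐲" => γ 14
set_option hygiene false in
local notation "𝐏" => pj (γ 14)
set_option hygiene false in
local notation "𝐑" => gen [z, ι 4, ι 1, ι 2, ι 10]

namespace Lt
variable (L : Lt z ι γ) (h : SZ z Q ι)
include L

theorem st (t : Tm) : S ι (t.ev γ []) (tP t) := S.tm L.s t

theorem act (t : Tm) {k l : ℕ} (e : k < 128 ∧ app (tB t) k = l) : t.ev γ [] * ι k * (t.ev γ [])⁻¹ = ι l :=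
  e.2 ▸ (L.st t).act (cd t) e.1

include h

theorem eq3 (a b : Tm) (e : Nat.beq (tB a) (tB b) = true) (ha : a.ev γ [] ^ 3 = 1) (hb : b.ev γ [] ^ 3 = 1) : a.ev γ [] = b.ev γ [] :=
  h.three (L.st a) (teq a b e ▸ L.st b) ha hb

theorem cmY (t : Tm) (e : Nat.beq (tB (t.cj (.c 14))) (tB (.c 14)) = true) : t.ev γ [] * 𝐲 = 𝐲 * t.ev γ [] :=
  cm_of_cj (L.eq3 h _ _ e (cjp L.c14) L.c14)

theorem inv3 (t : Tm) (e : Nat.beq (tB (t.cj (.c 14))) (tB (Tm.c 14)⁻¹) = true) : t.ev γ [] * 𝐲 * (t.ev γ [])⁻¹ = (𝐲)⁻¹ :=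
  L.eq3 h _ _ e (cjp L.c14) ((inv_pow _ _).trans (inv_eq_one.2 L.c14))

theorem y1 : 𝐲 ≠ 1 := fun e => absurd (((cd (.c 14)).eq (cd 1)).2 (h.uniq (L.s 14) (e ▸ S.one))) (by decide +kernel)

theorem zy : z * 𝐲 = 𝐲 * z := (h.cz (L.s 14)).symm

theorem qy {k : ℕ} (e : k < 128 ∧ app (tB (.c 14)) k = k) : ι k * 𝐲 = 𝐲 * ι k := (cm_of_cj (L.act (.c 14) e)).symm

theorem ly : ∀ a ∈ [z, ι 4, ι 1, ι 2, ι 10, γ 8, γ 12], a * 𝐲 = 𝐲 * a := by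
  simp only [List.forall_mem_cons]
  exact ⟨L.zy h, L.qy h (by decide +kernel), L.qy h (by decide +kernel), L.qy h (by decide +kernel), L.qy h (by decide +kernel),
    L.cmY h (.c 8) (by decide +kernel), L.cmY h (.c 12) (by decide +kernel), fun _ h => nomatch h⟩

theorem lR : ∀ a ∈ [z, ι 4, ι 1, ι 2, ι 10], a * 𝐲 = 𝐲 * a := fun a ha => L.ly h a (List.mem_append_left [γ 8, γ 12] ha)

theorem relG : Rels (gK z (ι 4) (ι 1) (ι 2) (ι 10) (γ 8) (γ 12)) Comp.U43k.R := by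
  set κ := gK z (ι 4) (ι 1) (ι 2) (ι 10) (γ 8) (γ 12)
  have k1 : ∀ x ≤ 5, ix x < 128 ∧ κ x = ι (ix x) := fun x hx => by
    interval_cases x
    exacts [⟨by decide, h.i0.symm⟩, ⟨by decide, h.z64.symm⟩, ⟨by decide, rfl⟩, ⟨by decide, rfl⟩, ⟨by decide, rfl⟩, ⟨by decide, rfl⟩]
  have k2 : ∀ w : List ℕ, (∀ x ∈ w, x ≤ 5) → eQ w < 128 ∧ ev κ w = ι (eQ w) := fun w hw => by
    induction w with
    | nil => exact ⟨by decide, h.i0.symm⟩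
    | cons x w ih =>
      obtain ⟨h1, h2⟩ := ih fun y hy => hw y (.tail _ hy)
      obtain ⟨h3, h4⟩ := k1 x (hw x (.head _))
      exact ⟨mu_lt _ _, by rw [Comp.ev_cons, h2, h4, ← h.mul _ h3 _ h1]; rfl⟩
  intro r hr
  rcases (by decide +kernel : ∀ r ∈ Comp.U43k.R, ((∀ x ∈ r.1, x ≤ 5) ∧ (r.2 = 0 ∧ eQ r.1 = 0 ∨ r.2 = 1 ∧ mu (eQ r.1) (eQ r.1) = 0)) ∨
    (∃ a ∈ [(6, 7, 8), (8, 9, 12)], ∃ x ≤ 5, r = (a.1 :: x :: a.2.1 :: r.1.drop 3, 0) ∧ (∀ x ∈ r.1.drop 3, x ≤ 5) ∧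
      mu (app (tB (.c a.2.2)) (ix x)) (eQ (r.1.drop 3)) = 0) ∨ r ∈ [([6], 2), ([8], 2), ([6, 8, 7, 9], 0), ([6, 7], 0), ([8, 9], 0)]) r hr
    with ⟨h1, ⟨h2, h3⟩ | ⟨h2, h3⟩⟩ | ⟨a, ha, x, hx, h1, h2, h3⟩ | h1
  · rw [h2, (k2 _ h1).2, h3, h.i0, one_pow]
  · rw [h2, (k2 _ h1).2, pow_two, ← h.mul _ (k2 _ h1).1 _ (k2 _ h1).1, h3, h.i0]
  · have : κ a.1 = γ a.2.2 ∧ κ a.2.1 = (γ a.2.2)⁻¹ := by
      rcases List.mem_pair.1 ha with rfl | rfl <;> exact ⟨rfl, rfl⟩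
    rw [h1, Comp.ev_cons, Comp.ev_cons, Comp.ev_cons, this.1, this.2, (k1 x hx).2, (k2 _ h2).2, ← mul_assoc, ← mul_assoc,
      (L.s _).act (RP _) (k1 x hx).1, ← h.mul _ ((RP _).1.1.app_lt (k1 x hx).1) _ (k2 _ h2).1]
    exact (pow_one _).trans ((congrArg ι h3).trans h.i0)
  · have := L.eq3 h (Tm.cj (.c 8) (.c 12)) (.c 12) (by decide +kernel) (cjp L.c12) L.c12
    simp only [List.mem_cons, List.not_mem_nil, or_false] at h1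
    rcases h1 with rfl | rfl | rfl | rfl | rfl
    exacts [(congrArg (· ^ 3) (mul_one _)).trans L.c8, (congrArg (· ^ 3) (mul_one _)).trans L.c12,
      rl this (mul_inv_cancel_left _ _), show (γ 8 * ((γ 8)⁻¹ * 1)) ^ 1 = 1 by simp, show (γ 12 * ((γ 12)⁻¹ * 1)) ^ 1 = 1 by simp]

theorem relX : Rels (gK (𝐏 z) (𝐏 (ι 4)) (𝐏 (ι 1)) (𝐏 (ι 2)) (𝐏 (ι 10)) (𝐏 (γ 8)) (𝐏 (γ 12))) Comp.U43k.R := fun r hr => by
  have k := L.ly h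
  simp only [List.forall_mem_cons] at k
  obtain ⟨k1, k2, k3, k4, k5, k6, k7, -⟩ := k
  have := ((T.ev (T.nt (.cons T.one (.cons (.pj k1) (.cons (.pj k2) (.cons (.pj k3) (.cons (.pj k4) (.cons (.pj k5) (.cons (.pj k6)
    (.cons (T.pj k6).inv (.cons (.pj k7) (.cons (T.pj k7).inv .nil))))))))))) r.1).pow (r.2 + 1))
  rw [L.relG h r hr] at this
  exact this.uniq T.one

theorem tz : T 𝐲 z (𝐏 z) := .pj (L.zy h)

theorem cenX (s : S ι g σ) (e : g * 𝐲 = 𝐲 * g) : σ ∈ gen (gC.map tP) :=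
  (cenY h.cP).ge ⟨h.mP s, mem_centralizer_singleton_iff.2 (h.uniq (s.mul (L.s 14)) (e ▸ (L.s 14).mul s))⟩

theorem cz2 {x : XQ 𝐲} (t : T 𝐲 g x) (e : x * 𝐏 z = 𝐏 z * x) : g * z = z * g :=
  cm_of_cj (T.two L.c14 (cj_of_cm e ▸ t.cj (L.tz h)) (L.tz h) (cjp (h.four h.ls.mem)) (h.four h.ls.mem))

omit L in
theorem _root_.Cfsg.Lib.SuzT.SZ.RQ : 𝐑 ≤ Q := gen_le.2 (by
  simp only [List.forall_mem_cons]
  exact ⟨h.ls.mem, h.mQ (by norm_num), h.mQ (by norm_num), h.mQ (by norm_num), h.mQ (by norm_num), fun _ h => nomatch h⟩)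

theorem mR (ha : a ∈ Q) (e : a * 𝐲 = 𝐲 * a) : a ∈ 𝐑 := by
  obtain ⟨k, hk, rfl⟩ := (h.mem _).1 ha
  obtain ⟨b, -, e⟩ := (by decide +kernel : ∀ k < 128, app (tB (.c 14)) k = k → ∃ b < 32, pr [64, 4, 1, 2, 10] b = k) k hk
    (h.fix' (L.s 14) (RP 14) hk hk (cj_of_cm e.symm))
  rw [← e, ← h.z64]
  exact (h.mem_pr (l := [64, 4, 1, 2, 10]) (by decide) b).2

theorem nQX (x : XQ 𝐲) (e : x * 𝐏 z = 𝐏 z * x) (q : XQ 𝐲) (hq : q ∈ gen [𝐏 z, 𝐏 (ι 4), 𝐏 (ι 1), 𝐏 (ι 2), 𝐏 (ι 10)]) :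
    x * q * x⁻¹ ∈ gen [𝐏 z, 𝐏 (ι 4), 𝐏 (ι 1), 𝐏 (ι 2), 𝐏 (ι 10)] := by
  obtain ⟨g, t⟩ := T.sur x
  obtain ⟨r, hr, t'⟩ := (T.gen (L.lR h)).1 hq
  exact (T.gen (L.lR h)).2 ⟨_, L.mR h (h.ls.norm g (L.cz2 h t e) r (h.RQ hr)) (t.cj t').1, t.cj t'⟩

theorem actX {x x' : XQ 𝐲} (t : T 𝐲 g x) (s : S ι g σ) {c : ℕ} (hc : Cd c σ) {j k : ℕ} (hj : j < 128 ∧ k < 128 ∧ app (tB (.c 14)) j = j)
    (t' : T 𝐲 (ι k) x') (e : x * 𝐏 (ι j) * x⁻¹ = x') : app c j = k :=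
  h.fix' s hc hj.1 hj.2.1 (T.two L.c14 (e ▸ t.cj (.pj (L.qy h ⟨hj.1, hj.2.2⟩))) t' (cjp (h.four (h.mQ hj.1))) (h.four (h.mQ hj.2.1)))

theorem cHX : Nat.card (centralizer ({𝐏 z} : Set (XQ 𝐲))) = 1152 := by
  choose π h1 h2 using fun g : ↥(centralizer {z} ⊓ 𝐂 (zpowers 𝐲)) => h.ex g (mem_cent_single.1 g.2.1)
  have a1 := card_rel (MonoidHom.mk' π fun a b => h.uniq (h2 _) ((h2 a).mul (h2 b))) (N := zpowers z)
    (zpowers_le.2 ⟨mem_cent_single.2 rfl, mem_cent_zpowers.2 (L.zy h)⟩) fun k => ⟨fun e => h.ls.mem_zp.2 (h.ker1 (e ▸ h2 k)),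
      fun e => (h.ls.mem_zp.1 e).elim (fun e => h.uniq (h2 k) (e.symm ▸ S.one)) fun e => h.uniq (h2 k) (by rw [e]; exact h.sz)⟩
  have a2 := card_rel (K := centralizer {z} ⊓ 𝐂 (zpowers 𝐲)) ((QuotientGroup.mk' ((zpowers 𝐲).subgroupOf (𝐂 (zpowers 𝐲)))).comp
    (inclusion inf_le_right)) (N := zpowers 𝐲) (zpowers_le.2 ⟨mem_cent_single.2 (L.zy h).symm, mem_cent_zpowers.2 rfl⟩)
    fun k => QuotientGroup.eq_one_iff _
  rw [show MonoidHom.range _ = gen (gC.map tP) from le_antisymm (by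
      rintro _ ⟨g, rfl⟩; exact L.cenX h (h2 g) (mem_cent_zpowers.1 g.2.2)) fun σ hσ => by
      obtain ⟨h3, h4⟩ := (cenY h.cP).le hσ
      obtain ⟨g, s⟩ := h.sur σ h3
      exact ⟨⟨g, mem_cent_single.2 (h.cz s), mem_cent_zpowers.2 (cm_of_cj (h.three
        (cj_of_cm (mem_cent_single.1 h4) ▸ s.cj (L.s 14)) (L.s 14) (cjp L.c14) L.c14))⟩, h.uniq (h2 _) s⟩,
    (enumP chkC).1, Nat.card_zpowers, h.ls.orderOf_eq] at a1
  rw [show MonoidHom.range _ = centralizer {𝐏 z} from le_antisymm (by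
      rintro _ ⟨g, rfl⟩
      have t : T 𝐲 g _ := ⟨mem_cent_zpowers.1 g.2.2, rfl⟩
      exact mem_cent_single.2 ((t.mul (L.tz h)).uniq (mem_cent_single.1 g.2.1 ▸ (L.tz h).mul t))) fun x hx => by
      obtain ⟨g, t⟩ := T.sur x
      exact ⟨⟨g, mem_cent_single.2 (L.cz2 h t (mem_cent_single.1 hx)), mem_cent_zpowers.2 t.1⟩, t.2⟩,
    Nat.card_zpowers, orderOf_eq_prime L.c14 (L.y1 h), ← a1] at a2
  exact Nat.eq_of_mul_eq_mul_left (by norm_num) a2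

omit L in
theorem _root_.Cfsg.Lib.SuzT.SZ.swap : ∃ g, g * z * g⁻¹ = ι 4 ∧ g * ι 4 * g⁻¹ = z := by
  obtain ⟨g, h1, h2⟩ := h.nwc
  obtain ⟨k, hk, e⟩ := (h.mem _).1 h1
  obtain ⟨σ, hσ, e1⟩ := trU hk (h.inj _ (mu_lt _ _) 0 (by norm_num) (by rw [h.mul k hk k hk, e, h.ls.conj_sq, h.i0]))
    (fun e0 => h.z1 (conj_eq_one_iff.1 (by rw [← e, e0, h.i0]))) fun e0 => h2 (by rw [← e, e0, h.z64])
  obtain ⟨c, s⟩ := h.sur σ hσ
  have e2 : c⁻¹ * g * z * (c⁻¹ * g)⁻¹ = ι 4 := cjc2 e.symm (cji ((s 4).trans (by rw [e1])))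
  have n : ι 4 ≠ z := fun e => absurd (h.inj 4 (by norm_num) 64 (by norm_num) (e.trans h.z64.symm)) (by norm_num)
  have lp := h.ls.lp (g := c⁻¹ * g) (e2 ▸ h.mQ (by norm_num)) (e2 ▸ n) (by rw [h.cQ]; norm_num)
  rw [e2] at lp
  obtain ⟨a, ha, -, a2⟩ := lp.exists_y
  obtain ⟨b, -, b1, b2⟩ := lp.symm.exists_y
  exact ⟨_, h.ls.swap lp.bQ lp.r.sq ha (fun e => lp.zb_ne_b (a2.symm.trans (cj_of_cm e))) (cm_of_cj b1) (b2.trans lp.zb.symm)⟩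

theorem exg : ∃ g, g * 𝐲 = 𝐲 * g ∧ g * z * g⁻¹ = ι 4 := by
  obtain ⟨g, g1, g2⟩ := h.swap
  have uy : ι 4 * 𝐲 = 𝐲 * ι 4 := L.qy h (by decide +kernel)
  obtain ⟨σ, hσ, s⟩ := h.ex (g * 𝐲 * g⁻¹) (g2 ▸ (cm_cj g uy).symm)
  obtain ⟨τ, hτ, h1, h2⟩ := fixU h.cP hσ (h.fix s (by norm_num) (by norm_num) (cj_of_cm (g1 ▸ (cm_cj g (L.zy h)).symm)))
    (h.uniq (s.pow 3) (cjp (g := g) L.c14 ▸ S.one))
  obtain ⟨c, s'⟩ := h.sur τ hτ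
  have e1 : c⁻¹ * g * z * (c⁻¹ * g)⁻¹ = ι 4 := cjc2 g1 (cji ((s' 4).trans (by rw [h1]; rfl)))
  have s2 : S ι (c⁻¹ * g * 𝐲 * (c⁻¹ * g)⁻¹) (τ⁻¹ * σ * τ) := by simpa [mul_assoc] using s'.inv.cj s
  rcases zp3 (tp3 (.c 14) (by decide +kernel)) h2 with e | e | e <;> rw [e] at s2
  · exact (L.y1 h (conj_eq_one_iff.1 (h.three s2 S.one (cjp L.c14) (one_pow _)))).elim
  · exact ⟨_, cm_of_cj (h.three s2 (L.s 14) (cjp L.c14) L.c14), e1⟩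
  · exact ⟨γ 18 * (c⁻¹ * g), cm_of_cj (cjc2 (h.three s2 (L.s 14).inv (cjp L.c14) ((inv_pow _ _).trans (inv_eq_one.2 L.c14)))
      ((conj_inv ..).symm.trans (inv_eq_iff_eq_inv.2 (L.inv3 h (.c 18) (by decide +kernel))))),
      cjc2 e1 (L.act (.c 18) (by decide +kernel))⟩

theorem QV (g1 : g * z * g⁻¹ = ι 4) (ha : a ∈ Q) (ha' : a ∈ cj g Q) : a ∈ gen [z, ι 4] := by
  have l := h.ls.conj g
  rw [g1] at l
  obtain ⟨k, hk, rfl⟩ := (h.mem _).1 ha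
  obtain ⟨b, -, e⟩ := (by decide +kernel : ∀ k < 128, mu k 4 = mu 4 k → (∀ a < 5, mu k (app (tB (tp (.c 19) a)) k) =
    mu (app (tB (tp (.c 19) a)) k) k) → ∃ b < 4, pr [64, 4] b = k) k hk ((h.cm hk (by norm_num)).1 (l.cen _ ha')) fun a ha => by
      have e := L.act (tp (.c 19) a) ⟨hk, rfl⟩
      have h1 := (cd (tp (.c 19) a)).1.1.app_lt hk
      have h2 := l.norm _ (cm_of_cj (L.act (tp (.c 19) a) ((by decide +kernel : ∀ a < 5, 4 < 128 ∧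
        app (tB (tp (.c 19) a)) 4 = 4) a ha))) _ ha'
      rw [e] at h2
      refine (h.cm hk h1).1 (by_contra fun n => ?_)
      exact absurd (h.inj 4 (by norm_num) 64 (by norm_num) ((mul_left_cancel ((l.toES.anti ha' h2 n).symm.trans
        (h.ls.toES.anti (h.mQ hk) (h.mQ h1) n))).trans h.z64.symm)) (by norm_num)
  rw [← e, ← h.z64]
  exact (h.mem_pr (l := [64, 4]) (by decide) b).2

theorem hy : Hy (𝐏 z) (𝐏 (ι 4)) (𝐏 (ι 1)) (𝐏 (ι 2)) (𝐏 (ι 10)) (𝐏 (γ 8)) (𝐏 (γ 12)) := by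
  have z1 : 𝐏 z ≠ 1 := fun e => h.z1 (T.two L.c14 (e ▸ L.tz h) T.one (h.four h.ls.mem) (one_pow _))
  have F := fk_of (L.relX h) z1
  have tu : T 𝐲 (ι 4) (𝐏 (ι 4)) := .pj (L.qy h (by decide +kernel))
  refine ⟨L.relX h, z1, fun x e k hk => ?_, L.nQX h, fun x e c => ?_, L.cHX h, ?_, fun x h1 h2 => ?_⟩
  · obtain ⟨g, t⟩ := T.sur x
    obtain ⟨r, hr, t'⟩ := (T.gen (L.ly h)).1 hk
    obtain ⟨σ, -, s⟩ := h.ex g (L.cz2 h t e)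
    have eK : gen [z, ι 4, ι 1, ι 2, ι 10, γ 8, γ 12] = gen (gKK.map (Tm.ev γ [])) := by
      rw [← L.g1, ← L.g2, ← L.g3, ← L.g5, ← L.g7]; rfl
    obtain ⟨κ, hκ, s'⟩ := S.gen' L.s (eK ▸ hr)
    obtain ⟨r', hr', s2⟩ := S.gen (fun t ht => ⟨_, mem_gen (List.mem_map_of_mem ht), L.st t⟩) (nK (L.cenX h s t.1) hκ)
    refine (T.gen (L.ly h)).2 ⟨_, ?_, t.cj t'⟩
    rcases h.ker (s.cj s') s2 with e | e <;> rw [e]
    exacts [eK ▸ hr', mul_mem (eK ▸ hr') (mem_gen (.head _))]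
  · obtain ⟨g, t⟩ := T.sur x
    obtain ⟨σ, -, s⟩ := h.ex g (L.cz2 h t e)
    obtain ⟨y, r, q⟩ := (enumP chkC).2 σ (L.cenX h s t.1)
    have k : ∀ {j}, (j < 128 ∧ j < 128 ∧ app (tB (.c 14)) j = j) → 𝐏 (ι j) ∈ [𝐏 z, 𝐏 (ι 4), 𝐏 (ι 1), 𝐏 (ι 2), 𝐏 (ι 10)] →
      app y j = j := fun hj e => L.actX h t s r hj (.pj (L.qy h hj.2)) (cj_of_cm (c _ (mem_gen e)).symm)
    obtain ⟨τ, hτ, rfl⟩ := r.any (((of_decide_eq_true q (k (by decide +kernel) (by simp))).1 (k (by decide +kernel) (by simp))).1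
      (k (by decide +kernel) (by simp)) (k (by decide +kernel) (by simp)))
    obtain ⟨c, hc, s'⟩ : ∃ c ∈ zpowers 𝐲, S ι c (tP τ) := by
      simp only [List.mem_cons, List.not_mem_nil, or_false] at hτ
      rcases hτ with rfl | rfl | rfl
      exacts [⟨1, one_mem _, S.one⟩, ⟨_, mem_zpowers _, L.s 14⟩,
        ⟨_, inv_mem (mem_zpowers _), teq (Tm.c 14)⁻¹ (.c 15) (by decide +kernel) ▸ (L.s 14).inv⟩]
    rcases h.ker s s' with rfl | rfl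
    · exact t.uniq (.of_mem hc) ▸ one_mem _
    · exact t.uniq ((T.of_mem hc).mul (L.tz h)) ▸ mul_mem (one_mem _) (mem_gen (.head _))
  · obtain ⟨g, g1, g2⟩ := L.exg h
    have := ((T.pj g1).cj (L.tz h)).uniq (by rw [g2]; exact tu)
    exact ⟨_, this ▸ mem_gen (by simp), this ▸ F.uz⟩
  · obtain ⟨k, hk, e⟩ := (((F.hQ _ h1).2.2 (by rw [conj_mul, F.z2]; simp)).1.resolve_left
      fun e => z1 (conj_eq_one_iff.1 e)).resolve_left h2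
    have e1 := cjc2 (rfl : x * 𝐏 z * x⁻¹ = _) (e ▸ cji (rfl : k * 𝐏 (ι 4) * k⁻¹ = _))
    obtain ⟨g, t⟩ := T.sur (k⁻¹ * x)
    have g1 : g * z * g⁻¹ = ι 4 := T.two L.c14 (e1 ▸ t.cj (L.tz h)) tu (cjp (h.four h.ls.mem)) (h.four (h.mQ (by norm_num)))
    refine Eq.trans ?_ F.cV
    rw [← card_cj k⁻¹, cj_inf, ← cj_mul, cj_eq_self_iff.2 (inv_mem (mem_normalizer_of_cj_le (by
      rintro _ ⟨q, hq, rfl⟩; exact L.nQX h k (F.hK k hk).1 q hq)))]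
    congr 2
    refine le_antisymm (fun r hr => ?_) (le_inf (fun v hv => (F.hV v hv).2.1) (gen_le.2 ?_))
    · obtain ⟨a, ha, ta⟩ := (T.gen (L.lR h)).1 hr.1
      obtain ⟨b, hb, tb⟩ := (T.gen (L.lR h)).1 (mem_cj.1 hr.2)
      have := T.two L.c14 ((t.inv.mul ta).mul t) tb (by simpa only [inv_inv] using cjp (g := g⁻¹) (h.four (h.RQ ha))) (h.four (h.RQ hb))
      exact (T.gen (l := [z, ι 4]) fun a ha => L.lR h a (List.mem_append_left [ι 1, ι 2, ι 10] ha)).2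
        ⟨a, L.QV h g1 (h.RQ ha) (mem_cj.2 (this ▸ h.RQ hb)), ta⟩
    · have t2 := (t.inv.mul (L.tz h)).mul t
      simp only [List.forall_mem_cons]
      exact ⟨mem_cj.2 ((T.gen (L.lR h)).2 ⟨_, L.mR h (mem_cj.1 (h.ls.sym (g1 ▸ h.mQ (by norm_num)) (by rw [h.cQ]; norm_num))) t2.1, t2⟩),
        e1 ▸ conj_mem_cj _ (mem_gen (.head _)), fun _ h => nomatch h⟩

theorem lift2 {x : XQ 𝐲} (x2 : x * x = 1) (e : x * 𝐏 z * x⁻¹ = 𝐏 z) :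
    ∃ t, T 𝐲 t x ∧ t * t = 1 ∧ ∃ σ ∈ gen (gC.map tP), S ι t σ ∧ σ * σ = 1 := by
  obtain ⟨g, t⟩ := T.sur x
  have t3 : T 𝐲 (g ^ 3) x := by simpa [pow_three, x2] using t.pow 3
  obtain ⟨c, hc, e1⟩ := T.one.ker (x2 ▸ t.mul t)
  have e2 : g ^ 3 * g ^ 3 = 1 := by rw [← (Commute.refl g).mul_pow, e1, one_mul, cube_mem L.c14 hc]
  obtain ⟨σ, -, s⟩ := h.ex _ (L.cz2 h t3 (cm_of_cj e))
  exact ⟨_, t3, e2, σ, L.cenX h s t3.1, s, h.uniq (s.mul s) (e2 ▸ S.one)⟩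

theorem st2 : ∃ t w m : G, S ι t (dl 4) ∧ S ι w (dl 6) ∧ t * 𝐲 = 𝐲 * t ∧ w * 𝐲 = 𝐲 * w ∧ m * 𝐲 = 𝐲 * m ∧ t * t = 1 ∧ w * w = 1 ∧
    UT (𝐏 z) (𝐏 (ι 4)) (𝐏 (ι 1)) (𝐏 t) (𝐏 (ι 2)) (𝐏 w) (𝐏 (ι 10)) (𝐏 (γ 8)) (𝐏 (γ 12)) ∧
    Mr (𝐏 z) (𝐏 (ι 4)) (𝐏 (ι 1)) (𝐏 t) (𝐏 (ι 2)) (𝐏 w) (𝐏 (ι 10)) (𝐏 m) := by
  have H := L.hy h
  obtain ⟨t', w', k⟩ := H.exTW
  have c := H.hc k
  obtain ⟨g, g1, -⟩ := H.swap
  have := eq_of_le_of_card_ge (H := gen [t', w', _, _, _]) (K := centralizer {𝐏 z})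
    (fun x hx => mem_centralizer_singleton_iff.2 (c.fh.hH x hx).1) (by rw [H.cH, c.fh.cH])
  have U : UT _ _ _ t' _ w' _ _ _ := ⟨c, fun g hg => this.ge (mem_centralizer_singleton_iff.2 hg), g, g1, H.QV g1⟩
  obtain ⟨m', M⟩ := U.exM
  obtain ⟨m, tm⟩ := T.sur m'
  obtain ⟨t, t1, t2, σ, hσ, s, σ2⟩ := L.lift2 h k.t2 k.tz
  obtain ⟨w, w1, w2, τ, hτ, s', τ2⟩ := L.lift2 h k.w2 k.wz
  obtain ⟨y, r, q⟩ := (enumP chkC).2 σ hσ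
  obtain ⟨y', r', q'⟩ := (enumP chkC).2 τ hτ
  have P : ∀ {j}, (j < 128 ∧ app (tB (.c 14)) j = j) → T 𝐲 (ι j) (𝐏 (ι j)) := fun e => .pj (L.qy h e)
  have tu := P (j := 4) (by decide +kernel)
  have te := P (j := 1) (by decide +kernel)
  have tf := P (j := 2) (by decide +kernel)
  have ts := P (j := 10) (by decide +kernel)
  have e1 : ι 4 * z * ι 2 = ι 70 := by rw [← h.z64, h.mul' (l := 68) (by decide), h.mul' (l := 70) (by decide)]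
  have e2 : z * ι 4 * ι 1 * ι 10 = ι 79 := by rw [← h.z64, h.mul' (l := 68) (by decide), h.mul' (l := 69) (by decide), h.mul' (l := 79) (by decide)]
  have a1 := ((of_decide_eq_true q (L.actX h t1 s r (by decide +kernel) tu k.tu)).1 (L.actX h t1 s r (by decide +kernel) te k.te)).2
    (L.actX h t1 s r (by decide +kernel) (e1 ▸ (tu.mul (L.tz h)).mul tf) k.tf)
    (L.actX h t1 s r (by decide +kernel) (e2 ▸ (((L.tz h).mul tu).mul te).mul ts) k.ts) ((Cd.eq (r.mul r) R.one).2 σ2)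
  have a2 := (of_decide_eq_true q' (L.actX h w1 s' r' (by decide +kernel) tu k.wu)).2
    (L.actX h w1 s' r' (by decide +kernel) (h.mul' (j := 4) (k := 1) (l := 5) (by decide) ▸ tu.mul te) k.we)
    (L.actX h w1 s' r' (by decide +kernel) tf k.wf)
    (L.actX h w1 s' r' (by decide +kernel) (h.mul' (j := 2) (k := 10) (l := 8) (by decide) ▸ tf.mul ts) k.ws)
    ((Cd.eq (r'.mul r') R.one).2 τ2)
  obtain rfl := (T.pj t1.1).uniq t1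
  obtain rfl := (T.pj w1.1).uniq w1
  obtain rfl := (T.pj tm.1).uniq tm
  exact ⟨t, w, m, (r.eq (RP 4)).1 a1 ▸ s, (r'.eq (RP 6)).1 a2 ▸ s', t1.1, w1.1, tm.1, t2, w2, U, M⟩

end Lt

end Cfsg.Lib.SuzT
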