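import Cfsg.Agent.Lib.SuzT.C1
import Cfsg.Agent.Lib.SuzT.B4

/-! Groups of Suzuki type: the centraliser of a subgroup `A₄`. -/

set_option autoImplicit false
set_option maxRecDepth 100000
set_option linter.unusedSectionVars false

namespace Cfsg.Lib.SuzT

open Cfsg.Lib.FO Subgroup Cfsg.Lib.Golay Cfsg.Lib.Known2 Cfsg.Lib.Amalg Cfsg.Lib.U43
open Cfsg.Lib.Psp43 hiding cjm
open Cfsg.Lib.Comp (Rels ev)

variable {G : Type*} [Group G] [Finite G] {z : G} {Q : Subgroup G} {ι γ E : ℕ → G} {g a b k m y e : G} {σ τ : Pm}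

def In (y : G) (E : ℕ → G) (j : ℕ) (k : G) : Prop := ∃ a ∈ zpowers y, k = a * E j * a⁻¹

/-- `x` permutes the six blocks as `ρ` -/
def Mv (y : G) (E : ℕ → G) (x : XQ y) (ρ : ℕ → ℕ) : Prop := ∀ g, T y g x → ∀ j < 6, ρ j < 6 ∧ In y E (ρ j) (g * E j * g⁻¹)

def ZZ (y e : G) (x : XQ y) : Prop := ∃ g, T y g x ∧ g * e = e * g

theorem sb_ind {X : Type*} [Group X] {μ : ℕ → X} (P : X → Prop) (h1 : P 1) (hm : ∀ x y, P x → P y → P (x * y)) {a b : Tm}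
    (ha : P (a.ev μ [])) (hb : P (b.ev μ [])) {l w : List ℕ} (hl : ∀ i ∈ l, P (μ i)) (hw : ∀ i ∈ w, i ∈ 14 :: 15 :: l) :
    P ((sb a b w).ev μ []) := by
  induction w with
  | nil => exact h1
  | cons i w ih =>
    refine hm _ _ ?_ (ih fun j hj => hw j (.tail _ hj))
    split_ifs with h2 h3
    exacts [ha, hb, hl i (by simpa [h2, h3] using hw i (.head _))]

section
variable {x x' : XQ y} {ρ ρ' : ℕ → ℕ} {j j' : ℕ}

theorem In.step (t : T y g x) (h1 : In y E j k) (h2 : In y E j' (g * E j * g⁻¹)) : In y E j' (g * k * g⁻¹) := by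
  obtain ⟨a, ha, rfl⟩ := h1
  obtain ⟨c, hc, e⟩ := h2
  exact ⟨a * c, mul_mem ha hc, by rw [← cjc2 rfl rfl, (t.cm ha).eq, cjc2 e rfl, cjc2 rfl rfl]⟩

theorem Mv.mk (t : T y g x) (H : ∀ j < 6, ρ j < 6 ∧ In y E (ρ j) (g * E j * g⁻¹)) : Mv y E x ρ := fun g' t' j hj => by
  obtain ⟨c, hc, rfl⟩ := t.ker t'
  exact ⟨(H j hj).1, by rw [cjc2 rfl rfl]; exact In.step t ⟨c, hc, rfl⟩ (H j hj).2⟩

theorem Mv.mul (h1 : Mv y E x ρ) (h2 : Mv y E x' ρ') : Mv y E (x * x') fun j => ρ (ρ' j) := by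
  obtain ⟨a, ta⟩ := T.sur x
  obtain ⟨b, tb⟩ := T.sur x'
  exact .mk (ta.mul tb) fun j hj => ⟨(h1 a ta _ (h2 b tb j hj).1).1, by
    rw [cjc2 rfl rfl]; exact In.step ta (h2 b tb j hj).2 (h1 a ta _ (h2 b tb j hj).1).2⟩

theorem Mv.wd {μ : ℕ → XQ y} {tb : ℕ → ℕ → ℕ} {l w : List ℕ} (h : ∀ i ∈ l, Mv y E (μ i) (tb i)) (hw : ∀ i ∈ w, i ∈ l) :
    Mv y E ((wd w).ev μ []) (acw tb w) := by
  induction w with
  | nil => exact .mk T.one fun j hj => ⟨hj, 1, one_mem _, rfl⟩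
  | cons i w ih => exact (h i (hw i (.head _))).mul (ih fun j hj => hw j (.tail _ hj))

theorem Mv.zz (h : Mv y E x ρ) (h0 : ρ 0 = 0) (e0 : E 0 = e) : ZZ y e x := by
  obtain ⟨g, t⟩ := T.sur x
  obtain ⟨a, ha, k⟩ := (h g t 0 (by norm_num)).2
  rw [h0, e0] at k
  exact ⟨a⁻¹ * g, by simpa using (T.of_mem ha).inv.mul t, cm_of_cj (cjc2 k (cji rfl))⟩

theorem ZZ.mul (h1 : ZZ y e x) (h2 : ZZ y e x') : ZZ y e (x * x') :=
  let ⟨_, a, b⟩ := h1; let ⟨_, c, d⟩ := h2; ⟨_, a.mul c, Commute.mul_left b d⟩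

end

theorem c3 (hg : g * y = y * g) (h : (y * k) ^ 3 = 1) : (y * (g * k * g⁻¹)) ^ 3 = 1 := by
  nth_rw 1 [← cj_of_cm hg]; rw [← cjm]; exact cjp h

theorem c3' (ha : a ∈ zpowers y) (h : (y * k) ^ 3 = 1) : (y * (a * k * a⁻¹)) ^ 3 = 1 := c3 (T.of_mem ha).1 h

set_option hygiene false in
local notation "𝐲" => γ 14
set_option hygiene false in
local notation "𝐞" => γ 16
set_option hygiene false in
local notation "𝐏" => pj (γ 14)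

structure L2 (z : G) (ι γ : ℕ → G) (m : G) : Prop extends Lt z ι γ where
  t2 : γ 4 * γ 4 = 1
  w2 : γ 6 * γ 6 = 1
  my : m * 𝐲 = 𝐲 * m
  U : UT (𝐏 z) (𝐏 (ι 4)) (𝐏 (ι 1)) (𝐏 (γ 4)) (𝐏 (ι 2)) (𝐏 (γ 6)) (𝐏 (ι 10)) (𝐏 (γ 8)) (𝐏 (γ 12))
  M : Mr (𝐏 z) (𝐏 (ι 4)) (𝐏 (ι 1)) (𝐏 (γ 4)) (𝐏 (ι 2)) (𝐏 (γ 6)) (𝐏 (ι 10)) (𝐏 m)

theorem SZ.l2 (h : SZ z Q ι) : ∃ γ m, L2 z ι γ m :=
  let ⟨_, L⟩ := h.lt; let ⟨_, _, m, h1, h2, _, _, h5, h6, h7, h8, h9⟩ := L.st2 h; ⟨_, m, L.upd h1 h2, h6, h7, h5, h8, h9⟩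

abbrev gν (γ : ℕ → G) (m : G) : ℕ → G := gU (γ 1) (γ 2) (γ 3) (γ 4) (γ 5) (γ 6) (γ 7) (γ 8) m (γ 12)
noncomputable abbrev gμ (γ : ℕ → G) (m : G) : ℕ → XQ 𝐲 :=
  gU (𝐏 (γ 1)) (𝐏 (γ 2)) (𝐏 (γ 3)) (𝐏 (γ 4)) (𝐏 (γ 5)) (𝐏 (γ 6)) (𝐏 (γ 7)) (𝐏 (γ 8)) (𝐏 m) (𝐏 (γ 12))
abbrev EE (γ : ℕ → G) (p j : ℕ) : G := (ET p j).ev γ []

theorem yp (γ : ℕ → G) (n : ℕ) : (tp (.c 14) n).ev γ [] ∈ zpowers 𝐲 := by rw [ev_tp]; exact pow_mem (mem_zpowers _) n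

namespace Lt
variable (L : Lt z ι γ) (h : SZ z Q ι)
include L h

theorem eqY (a b : Tm) (e : Nat.beq (tB a) (tB b) = true) (ha : (𝐲 * a.ev γ []) ^ 3 = 1) (hb : (𝐲 * b.ev γ []) ^ 3 = 1) :
    a.ev γ [] = b.ev γ [] := h.three' (L.s 14) (L.st a) (by rw [teq a b e]; exact L.st b) ha hb

theorem cmE {t : Tm} (s : S ι k (tP t)) (hk : (𝐲 * k) ^ 3 = 1) (r : Tm) (e1 : cY r) (e2 : cK r t) : r.ev γ [] * k = k * r.ev γ [] :=
  cm_of_cj (h.three' (L.s 14) ((L.st r).cj s) (by rw [show tP r * tP t * (tP r)⁻¹ = tP t from teq (r.cj t) t e2]; exact s)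
    (c3 (L.cmY h r e1) hk) hk)

theorem eQ : 𝐞 ∉ Q := fun he => by
  have e := L.act (.c 16) (k := 8) (l := 124) (by decide +kernel)
  rcases h.ls.toES.conj_eq he (h.mQ (k := 8) (by norm_num)) with k | k <;> have := e.symm.trans k
  · exact absurd (h.inj _ (by norm_num) _ (by norm_num) this) (by norm_num)
  · rw [← h.z64, h.mul' (l := 72) (by decide)] at this
    exact absurd (h.inj _ (by norm_num) _ (by norm_num) this) (by norm_num)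

theorem i2 (s : S ι k (dl 10)) : k ∈ Q ∧ k * k = z := by
  have e : ι 16 * ι 16 = z := (h.mul' (by decide)).trans h.z64
  rcases h.ker s (L.g10 ▸ L.s 10) with rfl | rfl
  · exact ⟨h.mQ (by norm_num), e⟩
  · exact ⟨mul_mem (h.mQ (by norm_num)) h.ls.mem, by
      rw [(Commute.symm (h.ls.cen _ (h.mQ (by norm_num)))).mul_mul_mul_comm, e, h.z2, mul_one]⟩

theorem Ed {d : Dt} (hd : d ∈ [dA, dB]) {j : ℕ} (hj : j < 6) : (𝐲 * EE γ d.p j) ^ 3 = 1 :=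
  c3 (L.cmY h _ ((ckD d hd).1.2 j hj).1) L.e3

theorem dis {d : Dt} (hd : d ∈ [dA, dB]) {j j' : ℕ} (hj : j < 6) (hj' : j' < 6) (h1 : In 𝐲 (EE γ d.p) j k)
    (h2 : In 𝐲 (EE γ d.p) j' k) : j = j' := by
  obtain ⟨a, ha, e1⟩ := h1
  obtain ⟨c, hc, e2⟩ := h2
  obtain ⟨t, ht, e⟩ : ∃ t ∈ [1, .c 14, (Tm.c 14)⁻¹], a⁻¹ * c = t.ev γ [] := by
    rcases zp3 L.c14 (mul_mem (inv_mem ha) hc) with e | e | e
    exacts [⟨_, .head _, e⟩, ⟨_, .tail _ (.head _), e⟩, ⟨_, .tail _ (.tail _ (.head _)), e⟩]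
  have e3 := cjc2 e2.symm (cji e1.symm)
  rw [e] at e3
  exact ((ckD d hd).1.2 j hj).2.2.2.1 j' hj' t ht (((cd _).eq (cd _)).2 (h.uniq (L.st _) ((congrArg (S ι · _) e3).mp (L.st (t.cj (ET d.p j'))))))

end Lt

namespace L2
variable (L : L2 z ι γ m) (h : SZ z Q ι)
include L h

theorem tν (i : ℕ) : T 𝐲 (gν γ m i) (gμ γ m i) := by
  have k : ∀ i ∈ [1, 2, 3, 4, 5, 6, 7, 8, 12], T 𝐲 (γ i) (𝐏 (γ i)) := fun i hi =>
    .pj (L.cmY h (.c i) ((by decide +kernel : ∀ i ∈ [1, 2, 3, 4, 5, 6, 7, 8, 12], cY (.c i)) i hi))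
  simp only [List.forall_mem_cons] at k
  obtain ⟨k1, k2, k3, k4, k5, k6, k7, k8, k12, -⟩ := k
  exact T.nt (.cons T.one (.cons k1 (.cons k2 (.cons k3 (.cons k4 (.cons k5 (.cons k6 (.cons k7 (.cons k8 (.cons k8.inv
    (.cons (.pj L.my) (.cons (T.pj L.my).inv (.cons k12 (.cons k12.inv .nil)))))))))))))) i

omit h in
theorem emb : ∃ φ : U0 →* XQ 𝐲, Function.Bijective φ ∧ ∀ i, R c112 φ (getL gsU (idN 112) i) (gμ γ m i) := by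
  have := L.U.emb L.M
  rwa [← L.g1, ← L.g2, ← L.g3, ← L.g5, ← L.g7] at this

omit h in
theorem eqX (a b : Tm) (e : Nat.beq (uB a) (uB b) = true) : a.ev (gμ γ m) [] = b.ev (gμ γ m) [] :=
  let ⟨_, _, k⟩ := L.emb; eq_tm k a b e

theorem eqU (a b : Tm) (e : Nat.beq (uB a) (uB b) = true) (ha : a.ev (gν γ m) [] ^ 4 = 1) (hb : b.ev (gν γ m) [] ^ 4 = 1) :
    a.ev (gν γ m) [] = b.ev (gν γ m) [] := T.two L.c14 (T.tm (L.tν h) a) (by rw [L.eqX a b e]; exact T.tm (L.tν h) b) ha hb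

theorem q4 {j k : ℕ} (e : γ j = ι k) (hk : k < 128) : γ j ^ 4 = 1 := h.four (e ▸ h.mQ hk)

omit L h in
theorem sq4 (ha : a * a = 1) : a ^ 4 = 1 := by rw [show 4 = 2 * 2 from rfl, pow_mul, pow_two a, ha, one_pow]

theorem mz : m * z * m⁻¹ = ι 4 := by
  have := L.eqU h (.cj (.c 10) (.c 1)) (.c 2) (by decide +kernel) (cjp (L.q4 h (L.g1.trans h.z64.symm) (by norm_num)))
    (L.q4 h L.g2 (by norm_num))
  rwa [← L.g1, ← L.g2]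

theorem mu : m * (ι 4 * z) * m⁻¹ = z := by
  have := L.eqU h (.cj (.c 10) (.c 2 * .c 1)) (.c 1) (by decide +kernel)
    (cjp (h.four (show γ 2 * γ 1 ∈ Q from mul_mem (L.g2 ▸ h.mQ (by norm_num)) (L.g1 ▸ h.ls.mem)))) (L.q4 h (L.g1.trans h.z64.symm) (by norm_num))
  rwa [← L.g1, ← L.g2]

theorem me : m * ι 1 * m⁻¹ = γ 4 :=
  L.g3 ▸ L.eqU h (.cj (.c 10) (.c 3)) (.c 4) (by decide +kernel) (cjp (L.q4 h L.g3 (by norm_num))) (sq4 L.t2)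

theorem mr {d : Dt} (hd : d ∈ [dA, dB]) : m * d.r.ev γ [] * m⁻¹ = ι d.j := by
  rcases List.mem_pair.1 hd with rfl | rfl
  · refine (L.eqU h (.cj (.c 10) (.c 4 * .c 3)) (.c 3) (by decide +kernel) (cjp ?_) (L.q4 h L.g3 (by norm_num))).trans L.g3
    show (γ 4 * γ 3) ^ 4 = 1
    rw [Commute.mul_pow (L.g3 ▸ cm_of_cj (L.act (.c 4) (k := 1) (by decide +kernel))), sq4 L.t2, L.q4 h L.g3 (by norm_num), one_mul]
  · exact (L.eqU h (.cj (.c 10) (.c 6)) (.c 5) (by decide +kernel) (cjp (sq4 L.w2)) (L.q4 h L.g5 (by norm_num))).trans L.g5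

theorem mcl {d : Dt} (hd : d ∈ [dA, dB]) {t : Tm} (s : S ι k (tP t)) (hk : (𝐲 * k) ^ 3 = 1) (e1 : cK (.c 2) t) (e2 : cK d.r t) :
    ∃ σ, S ι (m * k * m⁻¹) σ ∧ (σ * σ = 1 → ∃ t ∈ uA d.p, σ = tP t) ∧ (σ * σ = dl 2 → ∃ t ∈ uQ, σ = tP t) := by
  have kz := h.cz s
  have ku : ι 4 * k = k * ι 4 := L.g2 ▸ L.cmE h s hk (.c 2) (by decide +kernel) e1
  have h1 := cm_cj m (show k * (ι 4 * z) = ι 4 * z * k from Commute.mul_right ku.symm kz)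
  have h2 := cm_cj m kz
  have h3 := cm_cj m (L.cmE h s hk d.r (ckD d hd).1.1 e2).symm
  rw [L.mu h] at h1
  rw [L.mz h] at h2
  rw [L.mr h hd] at h3
  obtain ⟨σ, hσ, s'⟩ := h.ex _ h1
  exact ⟨σ, s', clA h.cP hσ (by rcases List.mem_pair.1 hd with rfl | rfl; exacts [.inl ⟨rfl, rfl⟩, .inr ⟨rfl, rfl⟩])
    (h.fix s' (by norm_num) (by norm_num) (cj_of_cm h2)) (h.fix s' d.j.2 d.j.2 (cj_of_cm h3))
    (h.uniq (((L.s 14).mul s').pow 3) (by rw [c3 L.my hk]; exact S.one))⟩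

theorem e2 : 𝐞 * 𝐞 = 1 := by
  refine (h.ker1 (by
    rw [← show dl 16 * dl 16 = 1 from teq (.mul (.c 16) (.c 16)) 1 (by decide +kernel)]; exact (L.s 16).mul (L.s 16))).resolve_right fun e => ?_
  have A : ∀ {k t}, S ι k (tP t) → (𝐲 * k) ^ 3 = 1 → cK (.c 2) t → cK dA.r t → k * k = z → ∃ a ∈ zpowers 𝐲, ∃ x,
      m * k * m⁻¹ = a * x * a⁻¹ ∧ x * x = ι 4 ∧ (x = γ 11 ∨ x = γ 7 * γ 11 * (γ 7)⁻¹) := fun {k t} s hk e1 e2 k2 => by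
    obtain ⟨σ, s', -, H⟩ := L.mcl h (.head _) s hk e1 e2
    have sq : m * k * m⁻¹ * (m * k * m⁻¹) = ι 4 := by rw [conj_mul, k2, L.mz h]
    obtain ⟨t', ht, rfl⟩ := H (h.uniq (s'.mul s') (by rw [sq, ← L.g2]; exact L.s 2))
    have B : ∀ n x, (𝐲 * x.ev γ []) ^ 3 = 1 → t' = YT n x → ∃ a ∈ zpowers 𝐲, m * k * m⁻¹ = a * x.ev γ [] * a⁻¹ ∧
        x.ev γ [] * x.ev γ [] = ι 4 := fun n x hx e => by
      have e3 := h.three' (L.s 14) s' (L.st t') (c3 L.my hk) (by rw [e]; exact c3' (yp γ n) hx)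
      rw [e] at e3
      refine ⟨_, yp γ n, e3, ?_⟩
      rw [e3] at sq
      exact (cji ((conj_mul ..).symm.trans sq)).symm.trans
        (cj_of_cm ((T.pj (L.qy h (by decide +kernel))).cm (inv_mem (yp γ n))).symm)
    obtain ⟨n, -, ht⟩ := List.mem_flatMap.1 ht
    rcases List.mem_pair.1 ht with e | e
    · obtain ⟨a, h1, h2, h3⟩ := B n (.c 11) L.q3 e
      exact ⟨a, h1, _, h2, h3, .inl rfl⟩
    · obtain ⟨a, h1, h2, h3⟩ := B n (.cj (.c 7) (.c 11)) (c3 (L.cmY h (.c 7) (by decide +kernel)) L.q3) e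
      exact ⟨a, h1, _, h2, h3, .inr rfl⟩
  obtain ⟨i, s, i3⟩ := h.odd' (L.s 14) (dl_mem 10) (tp3 (.mul (.c 14) (.c 10)) (by decide +kernel))
  obtain ⟨a, ha, x, h1, h2, h3⟩ := A (t := .c 16) (L.s 16) L.e3 (by decide +kernel) (by decide +kernel) e
  obtain ⟨c, hc, x', h4, h5, h6⟩ := A (t := .c 10) s i3 (by decide +kernel) (by decide +kernel) (L.i2 h s).2
  have n : ∀ {q}, q * q = ι 4 → γ 7 * q * (γ 7)⁻¹ * (γ 7 * q * (γ 7)⁻¹) ≠ ι 4 := fun e1 e2 => by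
    rw [conj_mul, e1] at e2
    exact absurd (h.inj _ (by norm_num) _ (by norm_num) ((L.act (.c 7) (k := 4) (l := 68) (by decide +kernel)).symm.trans e2)) (by norm_num)
  obtain rfl : x = x' := by
    rcases h3 with rfl | rfl <;> rcases h6 with rfl | rfl
    exacts [rfl, (n h2 h5).elim, (n h5 h2).elim, rfl]
  have k := mul_mem ha (inv_mem hc)
  have e3 := cjc2 rfl (cjc2 (cji h4.symm) h1.symm)
  rw [← ((T.pj L.my).cm k).eq, cjc2 rfl rfl] at e3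
  exact L.eQ h (mul_left_cancel (mul_right_cancel e3) ▸ h.ls.norm _ ((L.tz h).cm k).symm i (L.i2 h s).1)

theorem e1 : 𝐞 ≠ 1 := fun e => L.eQ h (e ▸ one_mem Q)

theorem ye (t : T 𝐲 g 1) (e : g * 𝐞 = 𝐞 * g) : g = 1 := by
  obtain ⟨c, hc, rfl⟩ := T.one.ker t
  have k : 𝐲 * 𝐞 ≠ 𝐞 * 𝐲 := fun k => L.e1 h (by
    have := L.e3
    rwa [Commute.mul_pow k, L.c14, one_mul, pow_three, L.e2 h, mul_one] at this)
  rw [one_mul] at e ⊢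
  rcases zp3 L.c14 hc with rfl | rfl | rfl
  exacts [rfl, (k e).elim, (k (Commute.inv_left_iff.1 e)).elim]

theorem mv {d : Dt} (hd : d ∈ [dA, dB]) : ∃ q ∈ d.K, ZZ 𝐲 𝐞 (gμ γ m 10) ∧ ZZ 𝐲 𝐞 ((wd q.2).ev (gμ γ m) []) := by
  obtain ⟨⟨-, k1⟩, k2, k3, k4⟩ := ckD d hd
  have H : ∀ j, ∃ j', j < 6 → j' < 6 ∧ In 𝐲 (EE γ d.p) j' (m * EE γ d.p j * m⁻¹) := fun j => by
    by_cases hj : j < 6
    swap
    · exact ⟨0, fun e => (hj e).elim⟩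
    obtain ⟨σ, s, H, -⟩ := L.mcl h hd (L.st _) (L.Ed h hd hj) (k1 j hj).2.1 (k1 j hj).2.2.1
    have sq : m * EE γ d.p j * m⁻¹ * (m * EE γ d.p j * m⁻¹) = 1 := by
      rw [conj_mul, show EE γ d.p j * EE γ d.p j = 1 from conj_mul.trans (by rw [show Tm.ev γ [] (.c 16) = 𝐞 from rfl, L.e2 h]; simp)]
      simp
    have h3 := c3 L.my (L.Ed h hd hj)
    obtain ⟨t, ht, rfl⟩ := H (h.uniq (s.mul s) (by rw [sq]; exact S.one))
    rcases List.mem_cons.1 ht with rfl | ht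
    · exact (L.e1 h (conj_eq_one_iff.1 (conj_eq_one_iff.1 (h.three' (L.s 14) s S.one h3 (by rw [mul_one, L.c14]))))).elim
    obtain ⟨n, -, ht⟩ := List.mem_flatMap.1 ht
    rcases List.mem_cons.1 ht with rfl | ht
    · have := (L.i2 h ((congrArg (S ι _) (cji (rfl : _ * dl 10 * _ = _))).mp ((L.st (tp (.c 14) n)).inv.cj s))).2
      rw [conj_mul, sq] at this
      exact (h.z1 (by simpa using this.symm)).elim
    · obtain ⟨j', hj', rfl⟩ := List.mem_map.1 ht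
      exact ⟨j', fun _ => ⟨List.mem_range.1 hj', _, yp γ n,
        h.three' (L.s 14) s (L.st (YT n (ET d.p j'))) h3 (c3' (yp γ n) (L.Ed h hd (List.mem_range.1 hj')))⟩⟩
  choose σ hσ using H
  have M : ∀ i ∈ 10 :: d.l, Mv 𝐲 (EE γ d.p) (gμ γ m i) (tb [σ 0, σ 1, σ 2, σ 3, σ 4, σ 5] i) := fun i hi => by
    rcases List.mem_cons.1 hi with rfl | hi
    · exact .mk (L.tν h 10) fun j hj => by have := hσ j hj; interval_cases j <;> exact this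
    · have e : gν γ m i = γ i ∧ tb [σ 0, σ 1, σ 2, σ 3, σ 4, σ 5] i = tb [] i := by
        have := (k2 i hi).2
        simp only [List.mem_cons, List.not_mem_nil, or_false] at this
        rcases this with rfl | rfl | rfl | rfl | rfl | rfl | rfl <;> exact ⟨rfl, rfl⟩
      refine .mk (L.tν h i) fun j hj => ?_
      obtain ⟨h1, n, -, h2⟩ := (k1 j hj).2.2.2.2 i hi
      rw [e.1, e.2]
      exact ⟨h1, _, yp γ n, L.eqY h _ _ h2 (c3 (L.cmY h _ (k2 i hi).1) (L.Ed h hd hj)) (c3' (yp γ n) (L.Ed h hd h1))⟩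
  obtain ⟨q, hq, e⟩ := ckS d hd _ (hσ 0 (by norm_num)).1 _ (hσ 1 (by norm_num)).1 _ (hσ 2 (by norm_num)).1 _ (hσ 3 (by norm_num)).1
    _ (hσ 4 (by norm_num)).1 _ (hσ 5 (by norm_num)).1 fun q hq j hj => by
      have m1 := Mv.wd M fun i hi => (k3 q hq).1 i (List.mem_append_left _ hi)
      have m2 := Mv.wd M fun i hi => (k3 q hq).1 i (List.mem_append_right _ hi)
      rw [L.eqX _ _ (k3 q hq).2] at m1
      obtain ⟨g, t⟩ := T.sur ((wd q.2).ev (gμ γ m) [])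
      exact L.dis h hd (m1 g t j hj).1 (m2 g t j hj).1 (m1 g t j hj).2 (m2 g t j hj).2
  rw [← e] at M
  have e0 : EE γ d.p 0 = 𝐞 := show 1 * 1 * 𝐞 * (1 * 1)⁻¹ = _ by simp
  exact ⟨q, hq, (M 10 (.head _)).zz (k4 q hq).1 e0, (Mv.wd M (k4 q hq).2.2).zz (k4 q hq).2.1 e0⟩

end L2

end Cfsg.Lib.SuzT
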