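import Cfsg.Agent.Lib.SuzT.C2
import Cfsg.Agent.Lib.Comp.Suz.Main
import Cfsg.Agent.Lib.Comp.SuzX.Main
import Cfsg.Agent.S1175

/-! Groups of Suzuki type are isomorphic to the sporadic Suzuki group. -/

set_option autoImplicit false
set_option maxRecDepth 100000
set_option linter.unusedSectionVars false

namespace Cfsg.Lib.SuzT

open Cfsg.Lib.FO Subgroup Cfsg.Lib.Golay Cfsg.Lib.Known2 Cfsg.Lib.Amalg Cfsg.Lib.U43
open Cfsg.Lib.Psp43 hiding cjm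
open Cfsg.Lib.Comp (Rels IvOK ev cl gp mem_cl ev_single hom_of_ord)

universe u

variable {G : Type u} [Group G] [Finite G] {z : G} {Q K : Subgroup G} {ι γ : ℕ → G} {g a b k m x : G} {σ τ : Pm}

set_option hygiene false in
local notation "𝐲" => γ 14
set_option hygiene false in
local notation "𝐞" => γ 16
set_option hygiene false in
local notation "𝐝" => γ 17

theorem nt_mem {l : List G} (h : ∀ x ∈ l, x ∈ K) (i : ℕ) : nt 1 l i ∈ K := by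
  induction l generalizing i with
  | nil => exact one_mem _
  | cons x l ih => cases i with
    | zero => exact h x (.head _)
    | succ i => exact ih (fun y hy => h y (.tail _ hy)) i

structure L3 (z : G) (ι γ : ℕ → G) (m b : G) : Prop extends L2 z ι γ m where
  bY : b * 𝐲 = 𝐲 * b
  be : b * 𝐞 = 𝐞 * b
  bd : b * 𝐝 = 𝐝 * b
  rel : Rels (nt 1 [1, z, b, ι 4, 1, 1, ι 1, ι 2]) RG
  n7 : b * (ι 4 * (ι 1 * (ι 2 * 1))) ≠ 1
  y5 : (b * (ι 4 * ι 8)) ^ 5 ∈ zpowers 𝐲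
  gn : ∀ K : Subgroup G, (∀ x ∈ [z, b, ι 4, ι 1, ι 2, ι 8, 𝐲], x ∈ K) → m ∈ K ∧ γ 12 ∈ K

namespace L2
variable (L : L2 z ι γ m) (h : SZ z Q ι)
include L h

theorem d2 : 𝐝 * 𝐝 = 1 := by
  have e : γ 21 * 𝐞 * (γ 21)⁻¹ * (γ 21 * 𝐞 * (γ 21)⁻¹) = 1 := by rw [conj_mul, L.e2 h]; simp
  have s := (L.s 21).cj (L.s 16)
  rcases h.ker (L.s 17) ((congrArg (S ι _) (teq (.cj (.c 21) (.c 16)) (.c 17) (by decide +kernel))).mp s) with k | k <;> rw [k]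
  · exact e
  · rw [(Commute.symm (h.cz s)).mul_mul_mul_comm, e, h.z2, mul_one]

theorem ye3 : ((𝐲)⁻¹ * 𝐞) ^ 3 = 1 := by
  rw [show (𝐲)⁻¹ * 𝐞 = (𝐞 * (𝐲 * 𝐞) * (𝐞)⁻¹)⁻¹ by nth_rw 1 [eq_inv_of_mul_eq_one_left (L.e2 h)]; group, inv_pow, cjp L.e3, inv_one]

theorem dy : 𝐝 * 𝐲 * (𝐝)⁻¹ = (𝐲)⁻¹ := L.inv3 h (.c 17) (by decide +kernel)

theorem c8' : γ 7 * γ 5 = ι 8 := by rw [L.g7, L.g5, h.mul' (l := 8) (by decide)]

theorem l3 : ∃ b, L3 z ι γ m b := by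
  obtain ⟨q, hq, zm, z1⟩ := L.mv h (.head _)
  obtain ⟨q', hq', -, z2⟩ := L.mv h (.tail _ (.head _))
  obtain ⟨c, -, c1, c2, c3, c4, c5⟩ := ckC q hq q' hq'
  have ce : ∀ i ∈ [1, 2, 3, 4, 5, 6], γ i * 𝐞 = 𝐞 * γ i := fun i hi =>
    let k := (by decide +kernel : ∀ i ∈ [1, 2, 3, 4, 5, 6], cY (.c i) ∧ cK (.c i) (.c 16)) i hi
    L.cmE h (t := .c 16) (L.s 16) L.e3 (.c i) k.1 k.2
  simp only [List.forall_mem_cons] at ce c4
  obtain ⟨e1, e2, e3, e4, e5, e6, -⟩ := ce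
  obtain ⟨f1, f2, f3, f4, f5, -⟩ := c4
  have t := L.tν h
  have A := fun w => sb_ind (ZZ 𝐲 𝐞) ⟨1, T.one, by simp⟩ (fun _ _ => ZZ.mul) z1 z2 (l := [1, 2, 3, 4, 5, 6, 10, 11]) (w := w) (by
    simp only [List.forall_mem_cons]
    exact ⟨⟨_, t 1, e1⟩, ⟨_, t 2, e2⟩, ⟨_, t 3, e3⟩, ⟨_, t 4, e4⟩, ⟨_, t 5, e5⟩, ⟨_, t 6, e6⟩, zm,
      let ⟨_, a, b⟩ := zm; ⟨_, a.inv, Commute.inv_left b⟩, fun _ h => nomatch h⟩)
  obtain ⟨b, tb, be⟩ := A _ fun i hi => c1 i (List.mem_append_left _ hi)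
  obtain ⟨b', tb', be'⟩ := A _ fun i hi => c1 i (List.mem_append_right _ hi)
  obtain ⟨φ, hφ, r⟩ := L.emb
  have rel : Rels (nt 1 [1, γ 1, b, γ 2, 1, 1, γ 3, γ 5]) RG := fun w hw => by
    have := (T.ev (T.nt (.cons T.one (.cons (t 1) (.cons tb (.cons (t 2) (.cons T.one (.cons T.one (.cons (t 3) (.cons (t 5)
      .nil))))))))) w.1).pow (w.2 + 1)
    refine L.ye h ((congrArg (T _ _) ((rels_tm r _ c3).2 w hw)).mp this) (mem_cent_single.1 (pow_mem (Comp.ev_mem fun i _ => nt_mem ?_ i) _))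
    simp only [List.forall_mem_cons, mem_cent_single]
    exact ⟨by simp, e1, be, e2, by simp, by simp, e3, e5, fun _ h => nomatch h⟩
  have b2 : b * b = 1 := by simpa [ev, nt, pow_two] using rel ([2], 1) (by decide +kernel)
  have b2' : b' * b' = 1 := L.ye h ((congrArg (T _ _) (L.eqX _ _ f2)).mp (tb'.mul tb')) (Commute.mul_left be' be')
  have tk := T.tm t κT
  have e7 := T.two L.c14 ((congrArg (T _ _) (L.eqX _ _ f1)).mp (tk.cj tb')) tb (cjp (sq4 b2')) (sq4 b2)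
  obtain ⟨n, -, hn⟩ : ∃ n < 3, Nat.beq (tB (κT.cj (.c 16))) (tB (YT n (.cj (.c 17) (.c 16)))) = true := by decide +kernel
  have e8 := L.eqY h _ _ hn (SuzT.c3 tk.1 L.e3) (c3' (yp γ n) (by
    show (𝐲 * (𝐝 * 𝐞 * (𝐝)⁻¹)) ^ 3 = 1
    rw [← inv_inv (𝐲), ← L.dy h, conj_inv, ← cjm]; exact cjp (L.ye3 h)))
  have e9 := cm_cj (κT.ev (gν γ m) []) be'
  rw [e7, show κT.ev (gν γ m) [] * 𝐞 * (κT.ev (gν γ m) [])⁻¹ = _ from e8] at e9
  have e10 : Commute b (𝐝 * 𝐞 * (𝐝)⁻¹) := by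
    have := cm_cj ((tp (.c 14) n).ev γ [])⁻¹ e9
    rwa [cj_of_cm (tb.cm (inv_mem (yp γ n))).symm, show _ * (YT n (.cj (.c 17) (.c 16))).ev γ [] * _ = _ from cji rfl] at this
  have e11 : 𝐝 = 𝐞 * (𝐝 * 𝐞 * (𝐝)⁻¹) * 𝐞 := by
    calc _ = (𝐝)⁻¹ := eq_inv_of_mul_eq_one_left (L.d2 h)
      _ = (𝐞 * 𝐝) ^ 3 * (𝐝)⁻¹ := by rw [L.d3, one_mul]
      _ = _ := by rw [inv_eq_of_mul_eq_one_left (L.d2 h), pow_three]; simp only [mul_assoc]; rw [L.d2 h, mul_one]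
  have t8 := (t 7).mul (t 5)
  refine ⟨b, L, tb.1, be, by rw [e11]; exact Commute.mul_right (Commute.mul_right be e10) be, by rwa [L.g1, L.g2, L.g3, L.g5] at rel,
    fun e => c5 ?_, ?_, fun K hK => ?_⟩
  · have := tb.mul ((t 2).mul ((t 3).mul ((t 5).mul T.one)))
    rw [← L.g2, ← L.g3, ← L.g5] at e
    exact ((Tm.sound r .nil _).eq_iff hφ.1 R.one).2 (((congrArg (T _ · _) e).mp this).uniq T.one)
  · obtain ⟨c, hc, e⟩ := T.one.ker ((congrArg (T _ _) ((ev_tp ..).symm.trans (L.eqX _ _ f3))).mp ((tb.mul ((t 2).mul t8)).pow 5))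
    rw [← L.g2, ← L.c8' h]
    exact (e.trans (one_mul c)).symm ▸ hc
  · simp only [List.forall_mem_cons] at hK
    obtain ⟨k1, k2, k3, k4, k5, k6, k7, -⟩ := hK
    have B := fun w => sb_ind (fun x => ∃ g ∈ K, T 𝐲 g x) ⟨1, one_mem _, T.one⟩
      (fun _ _ ⟨_, a, b⟩ ⟨_, c, d⟩ => ⟨_, mul_mem a c, b.mul d⟩) (b := .c 7 * .c 5) ⟨b, k2, tb⟩ ⟨_, L.c8' h ▸ k6, t8⟩ (l := [1, 2, 3, 5])
      (w := w) (by
        simp only [List.forall_mem_cons]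
        exact ⟨⟨γ 1, L.g1 ▸ k1, t 1⟩, ⟨γ 2, L.g2 ▸ k3, t 2⟩, ⟨γ 3, L.g3 ▸ k4, t 3⟩, ⟨γ 5, L.g5 ▸ k5, t 5⟩, fun _ h => nomatch h⟩)
    have C : ∀ {g x}, (∃ g ∈ K, T 𝐲 g x) → T 𝐲 g x → g ∈ K := fun ⟨_, a, b⟩ c =>
      let ⟨_, d, e⟩ := b.ker c; e ▸ mul_mem a (zpowers_le.2 k7 d)
    exact ⟨C (B _ fun i hi => c2 i (List.mem_append_left _ hi)) (by rw [L.eqX _ _ f4]; exact t 10),
      C (B _ fun i hi => c2 i (List.mem_append_right _ hi)) (by rw [L.eqX _ _ f5]; exact t 12)⟩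

theorem dud : 𝐝 * ι 4 * 𝐝 = ι 8 := by
  nth_rw 2 [eq_inv_of_mul_eq_one_left (L.d2 h)]; exact L.act (.c 17) (by decide +kernel)

theorem genH (h1 : z ∈ K) (h2 : 𝐲 ∈ K) (h3 : 𝐝 * 𝐞 ∈ K) (h4 : γ 12 ∈ K) (hg : g * z = z * g) : g ∈ K := by
  obtain ⟨σ, hσ, s⟩ := h.ex g hg
  obtain ⟨c, hc, s'⟩ := S.gen (ι := ι) (K := K) (ts := [.c 14, .c 17 * .c 16, .c 12]) (σ := σ) (by
    simp only [List.forall_mem_cons]
    exact ⟨⟨_, h2, L.s 14⟩, ⟨_, h3, (L.s 17).mul (L.s 16)⟩, ⟨_, h4, L.s 12⟩, fun _ h => nomatch h⟩) ((closure_le _).2 (by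
      rintro _ ⟨x, hx, rfl⟩
      obtain ⟨t, ht, rfl⟩ := (by decide +kernel : ∀ x ∈ g0, ∃ t ∈ [Tm.c 14, .c 17 * .c 16, .c 12], x = tB t) x hx
      exact mem_gen (List.mem_map.2 ⟨t, ht, (cd t).2.symm⟩)) hσ)
  rcases h.ker s s' with rfl | rfl
  exacts [hc, mul_mem hc h1]

theorem cls (hH : ∀ g, g * z = z * g → g ∈ K) (hm : m ∈ K) (xz : x * z = z * x) (x2 : x * x = 1) : x = 1 ∨ x = z ∨
    ((∃ k ∈ K, k * z * k⁻¹ = x) ∧ ∃ k ∈ K, k * z * k⁻¹ = z * x) ∨ ∃ k ∈ K, k * 𝐞 * k⁻¹ = x := by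
  obtain ⟨σ, hσ, s⟩ := h.ex x xz
  obtain ⟨τ, hτ, r, hr, rfl⟩ := invol h.cP hσ (h.uniq (s.mul s) (by rw [x2]; exact S.one))
  obtain ⟨c, s'⟩ := h.sur τ hτ
  have s2 := (congrArg (S ι _) (cji rfl)).mp (s'.inv.cj s)
  have cz := h.cz s'
  have e : c * (c⁻¹ * x * c⁻¹⁻¹) * c⁻¹ = x := by group
  have sq : c⁻¹ * x * c⁻¹⁻¹ * (c⁻¹ * x * c⁻¹⁻¹) = 1 := by rw [conj_mul, x2]; simp
  generalize c⁻¹ * x * c⁻¹⁻¹ = a at s2 e sq
  subst e
  have tr : ∀ {v a b c}, c ∈ K → (∃ g ∈ K, g * v * g⁻¹ = a) → c * a * c⁻¹ = b → ∃ g ∈ K, g * v * g⁻¹ = b :=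
    fun hc ⟨_, hg, e1⟩ e2 => ⟨_, mul_mem hc hg, cjc2 e1 e2⟩
  have hc := hH c cz
  have gK : ∀ i, γ i ∈ K := fun i => hH _ (h.cz (L.s i))
  have k := h.ker s2 (L.st _)
  have P : ∀ {ρ}, (∃ k ∈ K, k * z * k⁻¹ = ρ) → (∃ k ∈ K, k * z * k⁻¹ = ρ * z) → ρ * z = z * ρ → a = ρ ∨ a = ρ * z →
      (∃ k ∈ K, k * z * k⁻¹ = c * a * c⁻¹) ∧ ∃ k ∈ K, k * z * k⁻¹ = z * (c * a * c⁻¹) := fun h1 h2 h3 h4 => by
    have e : ∀ a, c * (z * a) * c⁻¹ = z * (c * a * c⁻¹) := fun a => by rw [cjm, cj_of_cm cz]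
    rcases h4 with rfl | rfl
    · exact ⟨tr hc h1 rfl, tr hc h2 (h3 ▸ e _)⟩
    · exact ⟨tr hc h2 rfl, tr hc h1 (by rw [← e, h3, ← mul_assoc z, h.z2, one_mul])⟩
  have N : ∀ {ρ}, ρ * z = z * ρ → ρ * ρ = z → ¬ (a = ρ ∨ a = ρ * z) := fun h1 h2 h3 => h.z1 (by
    rcases h3 with rfl | rfl
    · exact h2.symm.trans sq
    · rwa [(Commute.symm h1).mul_mul_mul_comm, h2, h.z2, mul_one] at sq)
  have cu : ∃ k ∈ K, k * z * k⁻¹ = ι 4 := ⟨m, hm, L.mz h⟩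
  have wt : γ 6 * γ 4 * (γ 6)⁻¹ = γ 4 * z := L.g1 ▸ L.eqU h (.cj (.c 6) (.c 4)) (.mul (.c 4) (.c 1)) (by decide +kernel) (cjp (sq4 L.t2)) (by
    show (γ 4 * γ 1) ^ 4 = 1
    rw [L.g1, Commute.mul_pow (h.cz (L.s 4)), sq4 L.t2, h.four h.ls.mem, one_mul])
  interval_cases r
  · rcases k with rfl | rfl
    exacts [.inl (conj_eq_one_iff.2 rfl), .inr (.inl (by
      rw [show Tm.ev γ [] (rp 0) = 1 from rfl, one_mul, cj_of_cm cz]))]
  · exact .inr (.inr (.inl (P cu ⟨m⁻¹, inv_mem hm, cji (L.mu h)⟩ (h.ls.cen _ (h.mQ (by norm_num))) (L.g2 ▸ k))))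
  · exact (h.z1 ((L.i2 h s2).2.symm.trans sq)).elim
  · have ct := tr hm (tr (inv_mem (gK 8)) cu (cji (L.act (.c 8) (k := 1) (by decide +kernel)))) (L.me h)
    exact .inr (.inr (.inl (P ct (tr (gK 6) ct wt) (h.cz (L.s 4)) k)))
  · refine .inr (.inr (.inr (tr hc ?_ rfl)))
    rcases k with rfl | rfl
    · exact ⟨1, one_mem _, by simp [rp, nt, Tm.ev]⟩
    · have e := L.act (.c 16) (k := 48) (l := 112) (by decide +kernel)
      rw [← h.mul' (j := 48) (k := 64) (l := 112) (by decide), h.z64, mul_inv_eq_iff_eq_mul] at e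
      refine ⟨(ι 48)⁻¹, inv_mem (hH _ (h.ls.cen _ (h.mQ (by norm_num)))), ?_⟩
      rw [inv_inv, mul_assoc, show 𝐞 * ι 48 = _ from e, mul_assoc, inv_mul_cancel_left]
      exact (h.cz (L.s 16)).symm
  · refine (N (h.cz (L.st _)) ?_ k).elim
    show γ 4 * γ 6 * (γ 4 * γ 6) = z
    nth_rw 2 [eq_inv_of_mul_eq_one_left L.w2]
    rw [mul_assoc, ← mul_assoc (γ 6), wt, ← mul_assoc, L.t2, one_mul]
  · refine (N (h.cz (L.st _)) ?_ k).elim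
    show γ 4 * γ 10 * (γ 4 * γ 10) = z
    rw [(Commute.symm (L.g10 ▸ cm_of_cj (L.act (.c 4) (k := 16) (by decide +kernel)))).mul_mul_mul_comm, L.t2, one_mul]
    exact (L.i2 h (L.s 10)).2

theorem fuse (hH : ∀ g, g * z = z * g → g ∈ K) (hm : m ∈ K) (hx : x ∈ K) (x2 : orderOf x = 2) :
    (∃ k ∈ K, k * z * k⁻¹ = x) ∨ ∃ k ∈ K, k * 𝐞 * k⁻¹ = x := by
  obtain ⟨T, hT, -, hTz⟩ := h.ls.exists_syl
  obtain ⟨c, hc, e⟩ := (hT.of_le (fun t ht => hH t (mem_cent_single.1 (hTz ht))) le_top).exists_conj_le (P := zpowers x)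
    (IsPGroup.of_card (n := 1) (by rw [Nat.card_zpowers, x2, pow_one])) (zpowers_le.2 hx)
  have tr : ∀ {v}, (∃ g ∈ K, g * v * g⁻¹ = c * x * c⁻¹) → ∃ g ∈ K, g * v * g⁻¹ = x :=
    fun ⟨_, hg, e1⟩ => ⟨_, mul_mem (inv_mem hc) hg, cjc2 e1 (cji rfl)⟩
  rcases L.cls h hH hm (mem_cent_single.1 (hTz (e (conj_mem_cj c (mem_zpowers x))))) (by
    rw [conj_mul, ← pow_two, ← x2, pow_orderOf_eq_one]; simp) with e | e | e | e
  exacts [by rw [conj_eq_one_iff.1 e, orderOf_one] at x2; omega, .inl (tr ⟨1, one_mem _, by simp [e]⟩), .inl (tr e.1), .inr (tr e)]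

end L2

def RH : List (List ℕ × ℕ) := [([4], 1), ([5], 1), ([1, 4], 1), ([1, 5], 1), ([2, 4], 1), ([2, 5], 1), ([3, 4], 7), ([3, 5], 1),
  ([4, 5], 2), ([4, 6], 1), ([4, 7], 1), ([5, 6], 1), ([5, 7], 1), ([1, 4, 3, 4, 3, 4, 3, 4, 3], 0)]

set_option hygiene false in
local notation "𝛅" => nt 1 [1, z, b, ι 4, γ 17, γ 16, ι 1, ι 2]

theorem SZ.l3 (h : SZ z Q ι) : ∃ γ m b, L3 z ι γ m b := let ⟨γ, m, L⟩ := h.l2; let ⟨b, L'⟩ := L.l3 h; ⟨γ, m, b, L'⟩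

namespace L3
variable (L : L3 z ι γ m b) (h : SZ z Q ι)
include L h

theorem rel0 : Rels 𝛅 (RH ++ RG.map fun r => (r.1.map id, r.2)) := by
  have q : ∀ {a : G}, a * a = 1 → (a * 1) ^ (1 + 1) = 1 := fun ha => by rwa [mul_one, pow_two]
  have d2 := L.d2 h
  have e2 := L.e2 h
  have i2 : ∀ {k}, k < 128 ∧ k < 128 ∧ mu k k = 0 → ι k * ι k = 1 := fun e => (h.mul' e).trans h.i0
  have b2 : b * b = 1 := by simpa [ev, nt, pow_two] using L.rel ([2], 1) (by decide +kernel)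
  have c : ∀ {i k}, γ i * γ i = 1 → (k < 128 ∧ k < 128 ∧ mu k k = 0) ∧ k < 128 ∧ app (tB (.c i)) k = k →
      (γ i * (ι k * 1)) ^ (1 + 1) = 1 := fun e1 e2 => r1 e1 (i2 e2.1) (cj_of_cm (cm_of_cj (L.act (.c _) e2.2)).symm)
  refine Rels.append (.cons (q d2) (.cons (q e2) (.cons (r1 h.z2 d2 (cj_of_cm (h.cz (L.s 17)))) (.cons (r1 h.z2 e2 (cj_of_cm (h.cz (L.s 16))))
    (.cons (r1 b2 d2 (cj_of_cm L.bd.symm)) (.cons (r1 b2 e2 (cj_of_cm L.be.symm)) (.cons ?_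
    (.cons (r1 (i2 (by decide)) e2 (L.act (.c 16) (by decide +kernel))) (.cons ?_ (.cons (c d2 (by decide +kernel))
    (.cons (c d2 (by decide +kernel)) (.cons (c e2 (by decide +kernel)) (.cons (c e2 (by decide +kernel)) (.cons ?_
    fun _ h => nomatch h)))))))))))))) (rels_congr id L.rel fun r hr x hx => by
      have := (by decide +kernel : ∀ r ∈ RG, ∀ x ∈ r.1, x ∈ [1, 2, 3, 6, 7]) r hr x hx
      simp only [List.mem_cons, List.not_mem_nil, or_false] at this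
      rcases this with rfl | rfl | rfl | rfl | rfl <;> rfl)
  · show (ι 4 * (𝐝 * 1)) ^ (2 * 4) = 1
    rw [pow_mul, show (ι 4 * (𝐝 * 1)) ^ 2 = ι 4 * ι 8 by rw [← L.dud h, pow_two]; group]
    exact h.four (mul_mem (h.mQ (by norm_num)) (h.mQ (by norm_num)))
  · show (𝐝 * (𝐞 * 1)) ^ 3 = 1
    rw [show 𝐝 * (𝐞 * 1) = 𝐝 * (𝐞 * 𝐝) * (𝐝)⁻¹ by group, cjp L.d3]
  · show (z * (𝐝 * (ι 4 * (𝐝 * (ι 4 * (𝐝 * (ι 4 * (𝐝 * (ι 4 * 1))))))))) ^ 1 = 1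
    calc _ = z * (𝐝 * ι 4 * 𝐝 * ι 4 * (𝐝 * ι 4 * 𝐝 * ι 4)) := by simp only [pow_one, mul_one, mul_assoc]
      _ = 1 := by rw [L.dud h, h.mul' (l := 12) (by decide), h.mul' (l := 64) (by decide), h.z64, h.z2]

theorem iv : IvOK 𝛅 Comp.Suz.iv := ivok (by decide +kernel : ∀ x < 64, Comp.Suz.iv x < 64 ∧ (7 < x → 7 < Comp.Suz.iv x)) fun k hk => by
  simp only [List.length_cons, List.length_nil] at hk
  have q := fun k => sq_of (L.rel0 h) (k := k)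
  interval_cases k
  exacts [inv_one.symm, q 1 (by decide +kernel), q 2 (by decide +kernel), q 3 (by decide +kernel), q 4 (by decide +kernel),
    q 5 (by decide +kernel), q 6 (by decide +kernel), q 7 (by decide +kernel)]

theorem w5 : ev 𝛅 [2, 3, 4, 3, 4] = b * (ι 4 * ι 8) := by
  show b * (ι 4 * (𝐝 * (ι 4 * (𝐝 * 1)))) = _
  rw [← L.dud h]; simp only [mul_one, mul_assoc]

theorem y5' : (b * (ι 4 * ι 8)) ^ 5 = 𝐲 ∨ (b * (ι 4 * ι 8)) ^ 5 = (𝐲)⁻¹ := (zp3 L.c14 L.y5).resolve_left fun e => by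
  obtain ⟨_, k⟩ := Comp.SuzX.ord G 𝛅 (L.iv h) ((Rels.cons (u := [2, 3, 4, 3, 4]) (e := 4) (by rwa [L.w5 h]) (L.rel0 h)).mono (by decide +kernel))
  have D : ∀ w : List ℕ, (∀ x ∈ w, x ∈ Comp.SuzX.L) → orderOf (ev 𝛅 w) ∣ Nat.card (cl 𝛅 Comp.SuzX.L) := fun w hw =>
    orderOf_dvd_natCard _ (Comp.ev_mem fun x hx => mem_cl (hw x hx))
  have r5 := L.rel0 h ([1, 2], 4) (by decide +kernel)
  have r3 := L.rel0 h ([2, 3], 2) (by decide +kernel)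
  have n : ∀ n, (z * ι 4) ^ (2 * n + 1) ≠ 1 := fun n e => by
    rw [← h.z64, h.mul' (l := 68) (by decide), pow_succ, pow_mul, pow_two, h.mul' (l := 0) (by decide), h.i0, one_pow, one_mul, ← h.i0] at e
    exact absurd (h.inj _ (by norm_num) _ (by norm_num) e) (by norm_num)
  have : Fact (Nat.Prime 5) := ⟨by norm_num⟩
  have d5 := D [1, 2] (by decide)
  have d3 := D [2, 3] (by decide)
  have d4 := D [4, 3, 4, 3] (by decide)
  rw [orderOf_eq_prime (p := 5) r5 fun e => n 1 (by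
    rw [show z = b from (eq_inv_of_mul_eq_one_left h.z2).trans (inv_eq_of_mul_eq_one_right ((congrArg _ (mul_one b)).symm.trans e))]
    simpa [ev, nt] using r3)] at d5
  rw [orderOf_eq_prime (p := 3) r3 fun e => n 2 (by
    rw [show ι 4 = b from (eq_inv_of_mul_eq_one_left ((h.mul' (by decide)).trans h.i0)).trans
      (inv_eq_of_mul_eq_one_left ((congrArg _ (mul_one _)).symm.trans e))]
    simpa [ev, nt] using r5)] at d3
  rw [show ev 𝛅 [4, 3, 4, 3] = ι 12 by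
    rw [← h.mul' (j := 8) (k := 4) (l := 12) (by decide), ← L.dud h]; simp [ev, nt, mul_assoc],
    orderOf_eq_prime_pow (p := 2) (n := 1) (by rw [pow_one, pow_two, h.mul' (l := 64) (by decide), h.z64]; exact h.z1)
      (h.four (h.mQ (by norm_num)))] at d4
  have := Nat.card_pos (α := cl 𝛅 Comp.SuzX.L)
  omega

theorem rels : Rels 𝛅 Comp.Suz.R := by
  refine (Rels.cons (u := [2, 3, 4, 3, 4] ++ ([2, 3, 4, 3, 4] ++ ([2, 3, 4, 3, 4] ++ ([2, 3, 4, 3, 4] ++ ([2, 3, 4, 3, 4] ++ [5])))))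
    (e := 2) ?_ (L.rel0 h)).mono (by decide +kernel)
  simp only [Comp.ev_append, L.w5 h, ev_single]
  rw [show ∀ a e : G, a * (a * (a * (a * (a * e)))) = a ^ 5 * e from fun a e => by simp only [pow_succ, pow_zero, one_mul, mul_assoc]]
  rcases L.y5' h with e | e <;> rw [e]
  exacts [L.e3, L.ye3 h]

theorem gen7 (k : ∀ x ∈ [z, b, ι 4, 𝐝, 𝐞, ι 1, ι 2], x ∈ K) : (∀ g, g * z = z * g → g ∈ K) ∧ m ∈ K := by
  simp only [List.forall_mem_cons] at k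
  obtain ⟨k1, k2, k3, k4, k5, k6, k7, -⟩ := k
  have k8 : ι 8 ∈ K := L.dud h ▸ mul_mem (mul_mem k4 k3) k4
  have k9 := pow_mem (mul_mem k2 (mul_mem k3 k8)) 5
  have ky : 𝐲 ∈ K := (L.y5' h).elim (· ▸ k9) fun e => inv_mem_iff.1 (e ▸ k9)
  obtain ⟨h1, h2⟩ := L.gn K (by simp only [List.forall_mem_cons]; exact ⟨k1, k2, k3, k6, k7, k8, ky, fun _ h => nomatch h⟩)
  exact ⟨fun g => L.genH h k1 ky (mul_mem k4 k5) h2, h1⟩

theorem nz (g : G) : g * z * g⁻¹ ≠ 𝐞 := fun e => by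
  have r := L.rel ([2, 3, 6, 7], 6) (.head _)
  have c : ∀ {k}, k < 128 ∧ app (tB (.c 16)) k = k → Commute (ι k) 𝐞 := fun e => (cm_of_cj (L.act (.c 16) e)).symm
  have h1 := cm_cj g⁻¹ (Commute.mul_left L.be (Commute.mul_left (c (k := 4) (by decide +kernel)) (Commute.mul_left
    (c (k := 1) (by decide +kernel)) (Commute.mul_left (c (k := 2) (by decide +kernel)) (Commute.one_left _)))))
  rw [cji e] at h1
  obtain ⟨σ, hσ, s⟩ := h.ex _ h1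
  have r' := cjp (g := g⁻¹) r
  have h2 : orderOf σ ∣ 7 := orderOf_dvd_of_pow_eq_one (h.uniq (s.pow 7) ((congrArg (S ι · 1) r').mpr S.one))
  have h3 := orderOf_dvd_natCard _ hσ
  rw [h.cP] at h3
  rcases h.ker1 (orderOf_eq_one_iff.1 (Nat.eq_one_of_dvd_coprimes (by norm_num) h2 h3) ▸ s) with k | k
  · exact L.n7 (conj_eq_one_iff.1 k)
  · refine h.z1 ?_
    rw [← r', show _ * ev _ _ * _ = z from k, show 6 + 1 = 4 + 3 from rfl, pow_add, h.four h.ls.mem, one_mul, h.z3]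

theorem odd_bot (K : Subgroup G) (h1 : Odd (Nat.card K)) (h2 : Q ≤ 𝐍 K) : K = ⊥ := by
  obtain ⟨g, hb, hne⟩ := h.nwc
  have hp := h.ls.lp hb hne (by rw [h.cQ]; norm_num)
  exact h.ls.odd_eq_bot hb hp.r.ne hne hp.r.sq (fun k hk =>
    ⟨2, hp.r.toES.pow_four (mul_mem (hp.r.norm k hk _ hp.zQ) (inv_mem hp.zQ))⟩) K h1 h2

theorem top [IsSimpleGroup G] (hH : ∀ g, g * z = z * g → g ∈ K) (hm : m ∈ K) : K = ⊤ := by
  by_contra hK
  obtain ⟨T, hT, hQ, hTz⟩ := h.ls.exists_syl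
  have z2 := h.ls.toES.orderOf_eq
  obtain ⟨H, hH'⟩ := Agent.S1175.result K hK z z2 (hH z rfl) ⟨hT.toSylowTop, hQ h.ls.mem, fun s hs => mem_cent_single.1 (hTz hs)⟩
    (fun g hg => by
      rcases L.fuse h hH hm hg ((Invol.orderOf_conj ..).trans z2) with ⟨k, hk, e⟩ | ⟨k, -, e⟩
      · simpa using mul_mem hk (hH (k⁻¹ * g) (cm_of_cj (cjc2 rfl (by rw [← e]; group))))
      · exact (L.nz h (k⁻¹ * g) (cjc2 rfl (by rw [← e]; group))).elim) fun g c n x hx => by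
      rcases L.cls h hH hm c.symm (h.ls.conj_sq g) with e | e | ⟨-, k, hk, e⟩ | ⟨k, -, e⟩
      · exact (h.z1 (conj_eq_one_iff.1 e)).elim
      · exact (n e).elim
      · have := cm_cj k⁻¹ (mem_cent_single.1 hx)
        rw [cji e] at this
        simpa [mul_assoc] using mul_mem (mul_mem hk (hH _ this)) (inv_mem hk)
      · exact (L.nz h (k⁻¹ * g) (cjc2 rfl (by rw [← e]; group))).elim
  obtain ⟨g, hg, e⟩ := se_moves' (L.odd_bot h _ (Core.odd_card_oddCore G) le_normalizer_of_normal) hT hH' (hQ h.ls.mem) z2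
  exact e ((h.ls.selfc _ fun x hx => cm_of_norm hg (fun x hx => mem_cent_single.1 (hTz hx)) (hQ hx)).resolve_left
    fun e => h.z1 (conj_eq_one_iff.1 e))

theorem iso : Nonempty (G ≃* Spor.Suz) := by
  obtain ⟨f, hf⟩ := hom_of_ord.{0, u} Comp.Suz.ord Comp.Suz.nets_iv Comp.Suz.nets_rel (L.iv h) (L.rels h) Comp.Suz.card.ge
  have hf' : ∀ x (hx : x ∈ Comp.Suz.L), f ⟨gp Comp.Suz.nets x, mem_cl hx⟩ = 𝛅 x := fun x hx => by
    simpa only [ev_single] using hf [x] (by simpa using hx)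
  have := Comp.Suz.simple
  have f1 := hf' 1 (by decide)
  have A : ∀ N : Subgroup G, N.Normal → z ∈ N → f.range ≤ N := fun N hN hz => by
    rcases (hN.comap f).eq_bot_or_eq_top with e | e
    · exact (h.z1 (f1.symm.trans ((congrArg f (mem_bot.1 (e.le (mem_comap.2 (Set.mem_of_eq_of_mem f1 hz))))).trans (map_one f)))).elim
    · rintro _ ⟨x, rfl⟩; exact e.ge (mem_top x)
  obtain ⟨hH, hm⟩ := L.gen7 h (K := f.range) (by
    simp only [List.forall_mem_cons]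
    exact ⟨⟨_, f1⟩, ⟨_, hf' 2 (by decide)⟩, ⟨_, hf' 3 (by decide)⟩, ⟨_, hf' 4 (by decide)⟩, ⟨_, hf' 5 (by decide)⟩,
      ⟨_, hf' 6 (by decide)⟩, ⟨_, hf' 7 (by decide)⟩, fun _ h => nomatch h⟩)
  have := h.ls.simple (L.odd_bot h) h.core fun g hg => A (normalClosure {z}) inferInstance (subset_normalClosure rfl) (hH g (mem_cent_single.1 hg))
  obtain ⟨e, -⟩ := Comp.Suz.equiv
  exact ⟨(e.trans (MulEquiv.ofBijective f ⟨(MonoidHom.ker_eq_bot_iff f).1 (f.normal_ker.eq_bot_or_eq_top.resolve_right fun e =>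
    h.z1 (f1.symm.trans (e.ge (mem_top _)))), MonoidHom.range_eq_top.1 (L.top h hH hm)⟩)).symm⟩

theorem qs : IsQuasisimple (𝐂 (zpowers 𝐲)) := by
  obtain ⟨e⟩ := L.U.iso
  have := simple_U0
  have := e.symm.isSimpleGroup
  have F := L.U.fh
  have hX := Layer.isQuasisimple_of_isSimpleGroup (G := XQ 𝐲) fun hc => F.z1 (mul_left_cancel
    (F.wt.symm.trans ((cj_of_cm (hc.is_comm.comm _ _)).trans (mul_one _).symm)))
  have B : ∀ g, g * 𝐲 = 𝐲 * g → ∃ d ∈ (_root_.commutator (𝐂 (zpowers 𝐲))).map (Subgroup.subtype _), ∃ c ∈ zpowers 𝐲,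
      Commute d c ∧ g = d * c := fun g hg => by
    obtain ⟨d, hd, e⟩ : pj 𝐲 g ∈ (_root_.commutator _).map (QuotientGroup.mk' _) := by
      rw [map_commutator_eq, MonoidHom.range_eq_top.2 (QuotientGroup.mk'_surjective _)]; exact hX.1.mem_commutator
    have t : T 𝐲 d _ := ⟨mem_cent_zpowers.1 d.2, e⟩
    obtain ⟨c, hc, e⟩ := t.ker (.pj hg)
    exact ⟨d, ⟨d, hd, rfl⟩, c, hc, t.cm hc, e⟩
  have I : ∀ {a}, a * 𝐲 = 𝐲 * a → a * a = 1 → a ∈ (_root_.commutator (𝐂 (zpowers 𝐲))).map (Subgroup.subtype _) := fun {a} h1 h2 => by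
    obtain ⟨d, hd, c, hc, k, e⟩ := B a h1
    rw [show a = d ^ 3 by rw [← mul_one (d ^ 3), ← cube_mem L.c14 hc, ← k.mul_pow, ← e, pow_three, h2, mul_one]]
    exact pow_mem hd 3
  have k := pow_mem (mul_mem (I L.bY (by simpa [ev, nt, pow_two] using L.rel ([2], 1) (by decide +kernel))) (mul_mem
    (I (a := ι 4) (L.qy h (by decide +kernel)) ((h.mul' (by decide)).trans h.i0))
    (I (a := ι 8) (L.qy h (by decide +kernel)) ((h.mul' (by decide)).trans h.i0)))) 5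
  refine Layer.isQuasisimple_of_ker_le_center (Group.isPerfect_def.2 (eq_top_iff.2 fun g _ => ?_)) _
    (QuotientGroup.mk'_surjective _) (fun x hx => mem_center_iff.2 fun g => Subtype.ext ?_) hX
  · obtain ⟨d, hd, c, hc, -, e⟩ := B g (mem_cent_zpowers.1 g.2)
    exact (mem_map_iff_mem (subtype_injective _)).1 (Set.mem_of_eq_of_mem e (mul_mem hd
      (zpowers_le.2 ((L.y5' h).elim (· ▸ k) fun e => inv_mem_iff.1 (e ▸ k)) hc)))
  · exact (g.2 x ((QuotientGroup.eq_one_iff x).1 hx)).symm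

theorem idx : (𝐂 (zpowers 𝐲)).relIndex (𝐍 (zpowers 𝐲)) = 2 := by
  have n : 𝐝 ∉ 𝐂 (zpowers 𝐲) := fun e => L.y1 h (by
    have := (cj_of_cm (mem_cent_zpowers.1 e)).symm.trans (L.dy h)
    rw [← L.c14, pow_three]; nth_rw 3 [this]; simp)
  refine relIndex_eq_two_iff_exists_notMem_and.2 ⟨𝐝, mem_normalizer_of_cj_le (map_le_iff_le_comap.2 (zpowers_le.2
    (mem_comap.2 (Set.mem_of_eq_of_mem (L.dy h) (inv_mem (mem_zpowers (𝐲))))))), n, fun g hg => ?_⟩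
  rcases zp3 L.c14 ((mem_normalizer_iff.1 hg _).1 (mem_zpowers _)) with e | e | e
  exacts [(L.y1 h (conj_eq_one_iff.1 e)).elim, .inr (mem_cent_zpowers.2 (cm_of_cj e)),
    .inl (mem_cent_zpowers.2 (cm_of_cj (cjc2 (L.dy h) (by rw [← conj_inv, e, inv_inv]))))]

end L3

theorem SZ.exY (h : SZ z Q ι) {y : G} (yz : y * z = z * y) (y3 : orderOf y = 3) {B : Subgroup G} (hB : Nat.card B = 8)
    (hc : ∀ q ∈ Q, q * y * q⁻¹ * y⁻¹ ∈ B) : ∃ ι γ m b, SZ z Q ι ∧ L3 z ι γ m b ∧ γ 14 = y := by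
  classical
  have y3' : y ^ 3 = 1 := y3 ▸ pow_orderOf_eq_one y
  obtain ⟨σ, hσ, s⟩ := h.ex y yz
  have := Fintype.ofFinite B
  obtain ⟨v, hv⟩ := Fintype.exists_lt_card_fiber_of_mul_lt_card (fun k : Fin 128 => (⟨_, hc _ (h.mQ k.2)⟩ : B)) (n := 8)
    (by rw [← Nat.card_eq_fintype_card, hB]; simp)
  obtain ⟨k0, h0⟩ := Finset.card_pos.1 (lt_trans (by norm_num) hv)
  choose j hj e using fun k : Fin 128 => (h.mem _).1 (mul_mem (inv_mem (h.mQ k0.2)) (h.mQ k.2))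
  rcases ord3 h.cP hσ (h.uniq (s.pow 3) (by rw [y3']; exact S.one)) (hv.trans_le (Finset.card_le_card_of_injOn (fun k => ⟨j k, hj k⟩)
    (fun k hk => by
      have e1 := congrArg Subtype.val ((Finset.mem_filter.1 hk).2.trans (Finset.mem_filter.1 h0).2.symm)
      refine Finset.mem_filter.2 ⟨Finset.mem_univ _, h.fix s (hj k) (hj k) (cj_of_cm (cm_of_cj ?_).symm)⟩
      rw [e]; exact cjc2 (mul_right_cancel e1) (cji rfl))
    fun k _ k' _ e1 => Fin.ext (h.inj _ k.2 _ k'.2 (mul_left_cancel ((e k).symm.trans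
      ((congrArg ι (congrArg Fin.val e1)).trans (e k'))))))) with rfl | ⟨τ, hτ, rfl⟩
  · rcases h.ker1 s with rfl | rfl
    · simp at y3
    · exact (h.z1 (h.z3.symm.trans y3')).elim
  obtain ⟨c, s'⟩ := h.sur τ hτ
  have h' := h.conj c (h.cz s')
  obtain ⟨γ, m, b, L⟩ := h'.l3
  refine ⟨_, γ, m, b, h', L, h'.three (L.s 14) (fun k => ?_) L.c14 y3'⟩
  simpa [mul_assoc] using cj3 c (((congrArg (S ι _) (cji rfl)).mp (s'.inv.cj s)) k)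

end Cfsg.Lib.SuzT
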